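import Cfsg.Agent.ZN.ChoiceSit

/-!
# THEOREM SW (NO-3S, case (Om), q = 2, all k): the abstract situation

`F` finite, `T` Sylow in `F`, `F₀` the unique maximal subgroup of `F` over `T`, `O = O₂(F)`; `V i` (`i : ι`) four groups in
`O` permuted by `T`, transitively by `O`, `z i ∈ V i` (one `O`-orbit of factors of `V_P`). `AA T` = the elementary abelian
subgroups of `T` of maximal order. `SwMain.false : Sit F T F₀ V z → False`.
-/

set_option autoImplicit false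

namespace Cfsg.Agent.Omega.OM.Swap

open Subgroup Cfsg.Agent.ZN Cfsg.Agent.ZN.ChoiceBase Cfsg.Agent.ZN.ChoiceSit

/-- The situation of THEOREM SW. `cj g H = g H g⁻¹`. -/
structure Sit {G : Type*} [Group G] {ι : Type*} (F T F₀ : Subgroup G) (V : ι → Subgroup G) (z : ι → G) :
    Prop where
  syl : Syl T F
  TF₀ : T ≤ F₀
  F₀F : F₀ < F
  /-- `F₀` is the unique maximal subgroup of `F` over `T` -/
  max : ∀ K : Subgroup G, T ≤ K → K < F → K ≤ F₀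
  /-- `J(T) ≰ O₂(F)` -/
  nJ : ∃ A ∈ AA T, ¬ A ≤ o2 F
  fin : Finite ι
  two : ∃ i j : ι, i ≠ j
  card : ∀ i, Nat.card (V i) = 4
  zV : ∀ i, z i ∈ V i
  z1 : ∀ i, z i ≠ 1
  VO : ∀ i, V i ≤ o2 F
  /-- `Λ = ⟨(V i)^F⟩` is elementary abelian -/
  sq : ∀ i, ∀ x ∈ V i, x * x = 1
  comm : ∀ f ∈ F, ∀ i j, ∀ x ∈ V i, ∀ y ∈ V j, x * (f * y * f⁻¹) = f * y * f⁻¹ * x
  /-- the `V i` are independent -/
  ind : ∀ i, ∀ x ∈ V i, x ∈ (⨆ j, ⨆ _ : j ≠ i, V j) → x = 1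
  /-- `T` permutes the `V i` and the `z i` -/
  perm : ∀ t ∈ T, ∀ i, ∃ j, cj t (V i) = V j ∧ t * z i * t⁻¹ = z j
  /-- `O₂(F)` is transitive on the `V i` -/
  tr : ∀ i j, ∃ o ∈ o2 F, cj o (V i) = V j
  /-- the members of `𝒜(T)` act on `V i` by transvections with centre `z i` -/
  act : ∀ A ∈ AA T, ∀ a ∈ A, ∀ i, ∀ x ∈ V i, a * x * a⁻¹ = x ∨ a * x * a⁻¹ = x * z i
  /-- exactness: a member which moves `V i` contains the transvection on `V i` (trivial on the other factors) -/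
  hat : ∀ A ∈ AA T, ∀ i, (∃ a ∈ A, ∃ x ∈ V i, a * x ≠ x * a) →
    ∃ a ∈ A, (∃ x ∈ V i, a * x ≠ x * a) ∧ ∀ j, j ≠ i → ∀ x ∈ V j, a * x = x * a
  mov : ∀ i, ∃ A ∈ AA T, ∃ a ∈ A, ∃ x ∈ V i, a * x ≠ x * a
  /-- `F` centralises the product of the `z i` (needed for two factors only) -/
  zc : ∀ i j, i ≠ j → (∀ k, k = i ∨ k = j) → ∀ f ∈ F, f * (z i * z j) = z i * z j * f
  /-- (TI): a nontrivial element of `V i` which lies in a conjugate `⟨V j⟩^f` -/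
  ti : ∀ i, ∀ x ∈ V i, x ≠ 1 → ∀ f ∈ F, x ∈ cj f (⨆ j, V j) → f ∈ F₀

end Cfsg.Agent.Omega.OM.Swap
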