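import Cfsg.Agent.Omega.OM.Line

/-!
# THEOREM SW (#18741), STEP 0: `N_G(B)` permutes the `W i`, `Z i` (`q = 2`); supports of the elements of `Z_J`
-/

set_option autoImplicit false

namespace Cfsg.Agent.Omega.OM.Swap

open Subgroup Cfsg Cfsg.Agent.ZN.ChoiceBase Cfsg.Agent.ZN.ChoiceSit
open Cfsg.Agent.ZN (jj zj bau zc zl o2)
open Cfsg.Agent.Omega.OM.Uni (FB Fr)
open Cfsg.Agent.Omega.OM.UniPlus (NB)

universe u

variable {G : Type u} [Group G] [Finite G]

theorem cj_mul_eq {g h : G} {X Y U : Subgroup G} (h1 : cj h X = Y) (h2 : cj g Y = U) : cj (g * h) X = U := by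
  rw [← cj_cj, h1, h2]

theorem cj_inv_eq {g : G} {X Y : Subgroup G} (h1 : cj g X = Y) : cj g⁻¹ Y = X := by
  rw [← h1, cj_inv_cj]

section line

variable {ι : Type} [Finite ι] {S : Sylow 2 G} {P : Subgroup G} {L W Z C A : ι → Subgroup G}

/-- `N_G(B)` permutes the triples `(W i, Z i, Z_J ∩ C i)`. -/
theorem perm (h : Line S P L W Z C A 2) {g : G} (hg : g ∈ normalizer (bau (S : Subgroup G) : Set G)) (i : ι) :
    ∃ j, cj g (Z i) = Z j ∧ cj g (W i) = W j ∧
      ∀ z ∈ zj (S : Subgroup G), (g * z * g⁻¹ ∈ C j ↔ z ∈ C i) := by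
  have h' : FB (bau (S : Subgroup G)) (cj g (L i)) (cj g (W i)) (cj g (Z i)) 2 := by
    have := (h.fr.blk i).conj g
    rwa [cj_eq_of_mem_normalizer hg] at this
  obtain ⟨-, j, hZ, -, h1 | ⟨-, -, ⟨w', hw', w, hw, hne⟩, -⟩⟩ := h.uniPlus h'
  · obtain ⟨-, hC, h2⟩ := h1
    refine ⟨j, hZ, (h2 rfl).1, fun z hz => ?_⟩
    have hz' : g * z * g⁻¹ ∈ zj (S : Subgroup G) := by
      have h3 := cj_eq_of_mem_normalizer (Dich.norm_zj _ hg)
      rw [← h3]
      exact ⟨z, hz, rfl⟩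
    rw [hC _ hz', UniPlus.mem_C_iff h.fr hz]
    constructor
    · intro h3 l hl
      have h4 := h3 (g * l * g⁻¹) ⟨l, hl, rfl⟩
      have h5 := congrArg (fun t => g⁻¹ * t * g) h4
      simpa [mul_assoc] using h5
    · intro h3 l hl
      have h4 := h3 _ (mem_cj.1 hl)
      have h5 := congrArg (fun t => g * t * g⁻¹) h4
      simpa [mul_assoc] using h5
  · exfalso
    apply hne
    refine h.fr.Vc ?_ (h.fr.WV j hw)
    rw [← (h.norm hg).1]
    exact cj_mono g (h.fr.WV i) hw'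

theorem Z_ne (h : Line S P L W Z C A 2) (i : ι) : ∃ z ∈ Z i, z ≠ 1 := by
  have h1 : 1 < Nat.card (Z i) := by rw [h.fr.cardZ i]; norm_num
  have : Nontrivial (Z i) := Finite.one_lt_card_iff_nontrivial.1 h1
  obtain ⟨z, hz⟩ := exists_ne (1 : Z i)
  exact ⟨z, z.2, fun h => hz (Subtype.ext h)⟩

theorem Z_W (h : Line S P L W Z C A 2) (i : ι) : Z i ≤ W i := (h.fr.blk i).ZV

theorem not_mem_C (h : Line S P L W Z C A 2) {i : ι} {z : G} (hz : z ∈ Z i) (h1 : z ≠ 1) : z ∉ C i := by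
  intro hc
  have h2 : z ∈ W i ⊓ C i := mem_inf.2 ⟨Z_W h i hz, hc⟩
  rw [h.fr.dir i, mem_bot] at h2
  exact h1 h2

theorem Z_C (h : Line S P L W Z C A 2) {i j : ι} (hij : i ≠ j) : Z j ≤ C i := (Z_W h j).trans (h.fr.WjC i j hij)

/-- `Z` is injective. -/
theorem Z_inj (h : Line S P L W Z C A 2) {i j : ι} (e : Z i = Z j) : i = j := by
  by_contra hne
  obtain ⟨z, hz, hz1⟩ := Z_ne h i
  exact not_mem_C h hz hz1 (Z_C h hne (e ▸ hz))

theorem Z_eq (h : Line S P L W Z C A 2) {i : ι} {x y : G} (hx : x ∈ Z i) (hy : y ∈ Z i) (hx1 : x ≠ 1)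
    (hy1 : y ≠ 1) : x = y := UniPlus.eq_of_card_two (h.fr.cardZ i) hx hy hx1 hy1

/-- If `g` normalises `Z i` it centralises it. -/
theorem cent_of_cj (h : Line S P L W Z C A 2) {i : ι} {g : G} (e : cj g (Z i) = Z i) {z : G} (hz : z ∈ Z i) :
    g * z = z * g := by
  by_cases h1 : z = 1
  · rw [h1]; simp
  have h2 : g * z * g⁻¹ ∈ Z i := by rw [← e]; exact ⟨z, hz, rfl⟩
  have h3 := Z_eq h h2 hz (fun h3 => h1 (by simpa using h3)) h1
  exact mul_inv_eq_iff_eq_mul.1 h3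

/-- If `g` moves `Z i` to `Z j` it moves the generator to the generator. -/
theorem conj_gen (h : Line S P L W Z C A 2) {i j : ι} {g : G} (e : cj g (Z i) = Z j) {z w : G} (hz : z ∈ Z i)
    (h1 : z ≠ 1) (hw : w ∈ Z j) (h2 : w ≠ 1) : g * z * g⁻¹ = w :=
  Z_eq h (by rw [← e]; exact ⟨z, hz, rfl⟩) hw (fun h3 => h1 (by simpa using h3)) h2

/-- An element of `Z_J` is determined by its support. -/
theorem eq_of_supp (h : Line S P L W Z C A 2) {x y : G} (hx : x ∈ zj (S : Subgroup G))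
    (hy : y ∈ zj (S : Subgroup G)) (hs : ∀ i, x ∈ C i ↔ y ∈ C i) : x = y := by
  have hxV := h.fr.ZJV hx
  have hyV := h.fr.ZJV hy
  have h1 : x * y⁻¹ = 1 := by
    refine h.fr.C0 _ (mul_mem hxV (inv_mem hyV)) fun i => ?_
    by_cases hxi : x ∈ C i
    · exact mul_mem hxi (inv_mem ((hs i).1 hxi))
    have hyi : y ∉ C i := fun hc => hxi ((hs i).2 hc)
    obtain ⟨w, hw, c, hc, -, e⟩ := h.fr.split_ZJ i hx
    obtain ⟨w', hw', c', hc', -, e'⟩ := h.fr.split_ZJ i hy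
    have hw1 : w ≠ 1 := by
      rintro rfl
      exact hxi (by rw [e, one_mul]; exact hc)
    have hw1' : w' ≠ 1 := by
      rintro rfl
      exact hyi (by rw [e', one_mul]; exact hc')
    have h2 := Z_eq h hw hw' hw1 hw1'
    have h3 : w * c = c * w := h.fr.Vc (h.fr.ZV i hw) (h.fr.CV i hc)
    have h4 : w * c' = c' * w := h.fr.Vc (h.fr.ZV i hw) (h.fr.CV i hc')
    have e1 : x * y⁻¹ = c * c'⁻¹ := by
      rw [e, e', ← h2, h3, h4]; group
    rw [e1]
    exact mul_mem hc (inv_mem hc')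
  exact mul_inv_eq_one.1 h1

/-- Every subset of the index set is a support. -/
theorem exists_supp (h : Line S P L W Z C A 2) (s : Set ι) :
    ∃ x ∈ zj (S : Subgroup G), ∀ i, (x ∈ C i ↔ i ∉ s) := by
  classical
  have : Fintype ι := Fintype.ofFinite ι
  suffices H : ∀ t : Finset ι, ∃ x ∈ zj (S : Subgroup G), ∀ i, (x ∈ C i ↔ i ∉ t) by
    obtain ⟨x, hx, hs⟩ := H s.toFinset
    exact ⟨x, hx, fun i => by rw [hs i, Set.mem_toFinset]⟩
  intro t
  induction t using Finset.induction_on with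
  | empty => exact ⟨1, one_mem _, fun i => by simp [one_mem]⟩
  | insert j t hj ih =>
    obtain ⟨x, hx, hs⟩ := ih
    obtain ⟨z, hz, hz1⟩ := Z_ne h j
    refine ⟨x * z, mul_mem hx (h.fr.Z_le j hz), fun i => ?_⟩
    by_cases hij : i = j
    · subst hij
      have h1 : x ∈ C i := (hs i).2 hj
      constructor
      · intro h2
        exact absurd ((Subgroup.mul_mem_cancel_left _ h1).1 h2) (not_mem_C h hz hz1)
      · intro h2
        exact absurd (Finset.mem_insert_self i t) h2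
    · have h1 : z ∈ C i := Z_C h hij hz
      rw [Subgroup.mul_mem_cancel_right _ h1, hs i, Finset.mem_insert, not_or]
      exact ⟨fun h2 => ⟨hij, h2⟩, fun h2 => h2.2⟩

/-- The support of a conjugate under `N_G(B)`. -/
theorem supp_cj (h : Line S P L W Z C A 2) {g : G} (hg : g ∈ normalizer (bau (S : Subgroup G) : Set G)) {i j : ι}
    (e : cj g (Z i) = Z j) {z : G} (hz : z ∈ zj (S : Subgroup G)) : g * z * g⁻¹ ∈ C j ↔ z ∈ C i := by
  obtain ⟨k, h1, -, h2⟩ := perm h hg i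
  have h3 : j = k := Z_inj h (e.symm.trans h1)
  rw [h3]
  exact h2 z hz

theorem W_cj (h : Line S P L W Z C A 2) {g : G} (hg : g ∈ normalizer (bau (S : Subgroup G) : Set G)) {i j : ι}
    (e : cj g (Z i) = Z j) : cj g (W i) = W j := by
  obtain ⟨k, h1, h2, -⟩ := perm h hg i
  have h3 : j = k := Z_inj h (e.symm.trans h1)
  rw [h3]
  exact h2

theorem zj_cj_mem {g : G} (hg : g ∈ normalizer (bau (S : Subgroup G) : Set G)) {z : G}
    (hz : z ∈ zj (S : Subgroup G)) : g * z * g⁻¹ ∈ zj (S : Subgroup G) := by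
  have h3 := cj_eq_of_mem_normalizer (Dich.norm_zj _ hg)
  rw [← h3]
  exact ⟨z, hz, rfl⟩

/-- `g ∈ N_G(B)` centralises `z ∈ Z_J` if it stabilises its support. -/
theorem comm_of_supp (h : Line S P L W Z C A 2) {g : G} (hg : g ∈ normalizer (bau (S : Subgroup G) : Set G)) {z : G}
    (hz : z ∈ zj (S : Subgroup G)) (hs : ∀ i j, cj g (Z i) = Z j → (z ∈ C i ↔ z ∈ C j)) : g * z = z * g := by
  have h1 : g * z * g⁻¹ = z := by
    refine eq_of_supp h (zj_cj_mem hg hz) hz fun j => ?_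
    obtain ⟨i, hi, -, -⟩ := perm h (inv_mem hg) j
    have e : cj g (Z i) = Z j := by
      have := cj_inv_eq hi
      rwa [inv_inv] at this
    rw [supp_cj h hg e hz]
    exact hs i j e
  exact mul_inv_eq_iff_eq_mul.1 h1

end line

end Cfsg.Agent.Omega.OM.Swap
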