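import Cfsg.Agent.Omega.OM.Swap.ModFacts
import Cfsg.Agent.Omega.OM.Swap.Plug

/-!
# THEOREM SW (#18741): the structure `MF` (module facts) from the frame `Line S P L W Z C A 2`
-/

set_option autoImplicit false

namespace Cfsg.Agent.Omega.OM.Swap

open Subgroup Cfsg Cfsg.Agent.ZN.ChoiceBase Cfsg.Agent.ZN.ChoiceSit
open Cfsg.Agent.ZN (jj zj bau zc zl o2)

universe u

variable {G : Type u} [Group G] [Finite G] {ι : Type} [Finite ι] {S : Sylow 2 G} {P : Subgroup G}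
  {L W Z C A : ι → Subgroup G}

theorem mf (h : Line S P L W Z C A 2) : MF (S : Subgroup G) L W Z where
  act := fun _ hX _ ha _ _ hx _ hz hz1 => act_AA h.fr hz hz1 hX ha hx
  hat := fun _ hX _ hi => hat_AA h.fr hX hi
  conj := fun r x hx => by
    obtain ⟨g, hg, hgx⟩ := conj_ZJ h.fr r hx
    exact ⟨g, hg, (iSup₂_le fun i _ => h.fr.Z_le i : (⨆ i ∈ r, Z i) ≤ zj (S : Subgroup G)) hgx⟩

end Cfsg.Agent.Omega.OM.Swap
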