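import Cfsg.Agent.Omega.OM.Swap.Star
import Cfsg.Agent.Omega.OM.Swap.Plug

/-!
# THEOREM SW: the end

`Sit.false`, `Fam.SitF.false`, `sitFalse : SitFalse`.
-/

set_option autoImplicit false

namespace Cfsg.Agent.Omega.OM.Swap

open Subgroup Cfsg Cfsg.Agent.ZN Cfsg.Agent.ZN.ChoiceBase Cfsg.Agent.ZN.ChoiceSit

universe u

variable {G : Type u} [Group G] {ι : Type*} {F T F₀ : Subgroup G} {𝓐 : Set (Subgroup G)} {V : ι → Subgroup G}
  {z : ι → G}

/-- The star lemma for `Sit`. -/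
theorem Sit.starO [Finite G] (h : Sit F T F₀ V z) {i j : ι} (hij : i ≠ j) {c a : G} (hc : c ∈ T)
    (hc2 : ∀ u ∈ ⨆ k, V k, c * (c * u * c⁻¹) * c⁻¹ = u) (hcV : cj c (V i) = V j) (ha : a ∈ F) (ha0 : a ∉ F₀)
    (hE : ∀ x ∈ V i, a * (x * (c * x * c⁻¹)) = x * (c * x * c⁻¹) * a) : ∃ D E, StarO F V z i j D E :=
  StarH.out (T := T) (c := c) (a := a)
    { syl := h.syl
      card := h.card
      zV := h.zV
      z1 := h.z1
      sq := h.sq
      cm := fun i j x hx y hy => by
        have := h.comm 1 (one_mem F) i j x hx y hy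
        simpa using this
      ind := h.ind
      perm := h.perm
      tr := h.tr
      mov := fun i => by
        obtain ⟨A, hA, hm⟩ := h.mov i
        obtain ⟨t, ht, h1, h2⟩ := h.hat A hA i hm
        exact ⟨t, hA.2.1 ht, h1, h2⟩
      ti := fun i x hx hx1 hxa => ha0 (h.ti i x hx hx1 a ha hxa)
      ij := hij
      cT := hc
      cc := hc2
      cV := hcV
      aF := ha
      star := hE }

theorem Sit.false [Finite G] (h : Sit F T F₀ V z) : False := by
  obtain ⟨i, j, hij, c, hc, hc2, hcV, a, ha, ha0, hE⟩ := h.exists_star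
  obtain ⟨D, E, hs⟩ := h.starO hij hc (fun u _ => by
    have h1 : c * (c * u * c⁻¹) * c⁻¹ = (c * c) * u * (c * c)⁻¹ := by group
    rw [h1, hc2]; group) hcV ha ha0 hE
  exact h.false_of hs

/-- The star lemma for `SitF`. -/
theorem Fam.SitF.starO [Finite G] (h : Fam.SitF F T F₀ 𝓐 V z) {i j : ι} (hij : i ≠ j) {c a : G} (hc : c ∈ T)
    (hc2 : ∀ u ∈ ⨆ k, V k, c * (c * u * c⁻¹) * c⁻¹ = u) (hcV : cj c (V i) = V j) (ha : a ∈ F) (ha0 : a ∉ F₀)
    (hE : ∀ x ∈ V i, a * (x * (c * x * c⁻¹)) = x * (c * x * c⁻¹) * a) : ∃ D E, StarO F V z i j D E :=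
  StarH.out (T := T) (c := c) (a := a)
    { syl := h.syl
      card := h.card
      zV := h.zV
      z1 := h.z1
      sq := h.sq
      cm := fun i j x hx y hy => by
        have := h.comm 1 (one_mem F) i j x hx y hy
        simpa using this
      ind := h.ind
      perm := h.perm
      tr := h.tr
      mov := h.mov
      ti := fun i x hx hx1 hxa => ha0 (h.ti i x hx hx1 a ha hxa)
      ij := hij
      cT := hc
      cc := hc2
      cV := hcV
      aF := ha
      star := hE }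

theorem Fam.SitF.false [Finite G] (h : Fam.SitF F T F₀ 𝓐 V z) : False := by
  obtain ⟨i, j, hij, c, hc, hc2, hcV, a, ha, ha0, hE⟩ := h.exists_star
  obtain ⟨D, E, hs⟩ := h.starO hij hc hc2 hcV ha ha0 hE
  exact h.false_of hs

/-- **THEOREM SW, STEPS 1 and 2.** -/
theorem sitFalse : SitFalse.{u} := fun _ _ _ _ _ _ _ _ _ h => h.false

end Cfsg.Agent.Omega.OM.Swap
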