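import Cfsg.Agent.Omega.OM.Swap.Rep

/-!
# THEOREM SW: the local structure of the action of `O` on `U = V_r^g` (`|U| = 16`, `O` acts as `⟨s₊, s₋⟩`)
-/

set_option autoImplicit false

namespace Cfsg.Agent.Omega.OM.Swap

open Subgroup Cfsg Cfsg.Agent.ZN Cfsg.Agent.ZN.ChoiceBase Cfsg.Agent.ZN.ChoiceSit
open scoped Pointwise commutatorElement

universe u

variable {G : Type u} [Group G]

/-- `x` commutes with `o`, as a subgroup of fixed points. -/
abbrev ce (U : Subgroup G) (o : G) : Subgroup G := U ⊓ centralizer ({o} : Set G)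

theorem mem_ce {U : Subgroup G} {o x : G} : x ∈ ce U o ↔ x ∈ U ∧ o * x = x * o := by
  rw [ce, mem_inf, mem_centralizer_singleton_iff]
  exact ⟨fun h => ⟨h.1, h.2.symm⟩, fun h => ⟨h.1, h.2.symm⟩⟩

/-- The group `O` acts on the elementary abelian group `U` of order 16 as the group generated by two "swaps":
`D` of order 8 contains `[U, O]`, `[D, O] ≤ ⟨z⟩`; three involutions with pairwise different centralisers. -/
structure Loc (O U D : Subgroup G) (z : G) : Prop where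
  card : Nat.card U = 16
  ab : ∀ x ∈ U, ∀ y ∈ U, x * y = y * x
  sq : ∀ x ∈ U, x * x = 1
  nor : ∀ o ∈ O, ∀ u ∈ U, o * u * o⁻¹ ∈ U
  zU : z ∈ U
  z1 : z ≠ 1
  DU : D ≤ U
  Dne : ∃ v ∈ U, v ∉ D
  s1 : ∀ o ∈ O, ∀ u ∈ U, u * (o * u * o⁻¹) ∈ D
  s2 : ∀ o ∈ O, ∀ d ∈ D, d * (o * d * o⁻¹) = 1 ∨ d * (o * d * o⁻¹) = z
  s3 : ∀ o ∈ O, (∃ u ∈ U, o * u ≠ u * o) → ∀ v ∈ U, v ∉ D → v * (o * v * o⁻¹) ≠ 1 ∧ v * (o * v * o⁻¹) ≠ z
  c4 : ∀ o ∈ O, (∃ u ∈ U, o * u ≠ u * o) → Nat.card (ce U o) = 4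
  c5 : ∀ o ∈ O, ∀ u ∈ U, o * (u * (o * u * o⁻¹)) * o⁻¹ = u * (o * u * o⁻¹)
  s4 : ∀ o ∈ O, ∀ o' ∈ O, ce U o = ce U o' → ∀ u ∈ U, o * u * o⁻¹ = o' * u * o'⁻¹

namespace Loc

variable {O U D : Subgroup G} {z : G}

theorem inv_eq (h : Loc O U D z) {x : G} (hx : x ∈ U) : x⁻¹ = x := inv_eq_of_mul_eq_one_left (h.sq x hx)

/-- `u ↦ [u, o]`. -/
def com (h : Loc O U D z) {o : G} (ho : o ∈ O) : U →* U where
  toFun u := ⟨u * (o * u * o⁻¹), mul_mem u.2 (h.nor o ho u u.2)⟩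
  map_one' := Subtype.ext (by simp)
  map_mul' u v := Subtype.ext (by
    have h1 := h.ab v v.2 (o * u * o⁻¹) (h.nor o ho u u.2)
    change (u * v : G) * (o * (u * v) * o⁻¹) = u * (o * u * o⁻¹) * (v * (o * v * o⁻¹))
    calc (u * v : G) * (o * (u * v) * o⁻¹) = u * (v * (o * u * o⁻¹)) * (o * v * o⁻¹) := by group
      _ = u * ((o * u * o⁻¹) * v) * (o * v * o⁻¹) := by rw [h1]
      _ = _ := by group)

theorem coe_com (h : Loc O U D z) {o : G} (ho : o ∈ O) (u : U) :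
    (h.com ho u : G) = u * (o * u * o⁻¹) := rfl

theorem mem_ker (h : Loc O U D z) {o : G} (ho : o ∈ O) (u : U) : u ∈ (h.com ho).ker ↔ (u : G) ∈ ce U o := by
  rw [MonoidHom.mem_ker, ← Subtype.coe_inj, coe_com, mem_ce]
  change (u : G) * (o * u * o⁻¹) = 1 ↔ _
  rw [mul_eq_one_iff_inv_eq, h.inv_eq u.2]
  constructor
  · intro h1
    refine ⟨u.2, ?_⟩
    rw [eq_mul_inv_iff_mul_eq] at h1
    exact h1.symm
  · rintro ⟨-, h1⟩
    rw [h1, mul_inv_cancel_right]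

theorem card_range [Finite G] (h : Loc O U D z) {o : G} (ho : o ∈ O) (hm : ∃ u ∈ U, o * u ≠ u * o) :
    Nat.card (h.com ho).range = 4 := by
  have h1 : Nat.card (h.com ho).ker = 4 := by
    rw [← h.c4 o ho hm]
    have h2 : (h.com ho).ker.map U.subtype = ce U o := by
      ext x
      constructor
      · rintro ⟨u, hu, rfl⟩
        exact (h.mem_ker ho u).1 hu
      · intro hx
        exact ⟨⟨x, hx.1⟩, (h.mem_ker ho _).2 hx, rfl⟩
    rw [← h2, PLocal.ThompsonJ.card_map_injective _ U.subtype_injective]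
  have h2 := (h.com ho).ker.card_mul_index
  rw [index_ker, h1, h.card] at h2
  omega

/-- `[U, o] = C_U(o)`. -/
theorem exists_com [Finite G] (h : Loc O U D z) {o : G} (ho : o ∈ O) (hm : ∃ u ∈ U, o * u ≠ u * o) {y : G}
    (hy : y ∈ ce U o) : ∃ u ∈ U, y = u * (o * u * o⁻¹) := by
  have h1 : (h.com ho).range.map U.subtype = ce U o := by
    apply eq_of_le_of_card_ge
    · rintro _ ⟨_, ⟨u, rfl⟩, rfl⟩
      refine mem_ce.2 ⟨(h.com ho u).2, ?_⟩
      have h2 := h.c5 o ho u u.2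
      change o * (h.com ho u : G) * o⁻¹ = (h.com ho u : G) at h2
      rw [mul_inv_eq_iff_eq_mul] at h2
      exact h2
    · rw [PLocal.ThompsonJ.card_map_injective _ U.subtype_injective, h.card_range ho hm, h.c4 o ho hm]
  rw [← h1] at hy
  obtain ⟨_, ⟨u, rfl⟩, rfl⟩ := hy
  exact ⟨u, u.2, rfl⟩

/-- Two elements `o, o'` which move `U` such that `o'` centralises `[U, o]` act in the same way. -/
theorem same [Finite G] (h : Loc O U D z) {o o' : G} (ho : o ∈ O) (ho' : o' ∈ O) (hm : ∃ u ∈ U, o * u ≠ u * o)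
    (hm' : ∃ u ∈ U, o' * u ≠ u * o') (hq : ∀ u ∈ U, o' * (u * (o * u * o⁻¹)) = u * (o * u * o⁻¹) * o') :
    ce U o = ce U o' ∧ ∀ u ∈ U, o * u * o⁻¹ = o' * u * o'⁻¹ := by
  have h1 : ce U o = ce U o' := by
    apply eq_of_le_of_card_ge
    · intro y hy
      obtain ⟨u, hu, rfl⟩ := h.exists_com ho hm hy
      exact mem_ce.2 ⟨hy.1, hq u hu⟩
    · rw [h.c4 o ho hm, h.c4 o' ho' hm']
  exact ⟨h1, h.s4 o ho o' ho' h1⟩

/-- Conjugation. -/
theorem conj [Finite G] (h : Loc O U D z) {g : G} (hg : cj g O = O) (hz : g * z = z * g) :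
    Loc O (cj g U) (cj g D) z := by
  have hO : ∀ o ∈ O, g⁻¹ * o * g ∈ O := fun o ho => by
    rw [← hg] at ho
    exact mem_cj.1 ho
  have key : ∀ (o x : G), g⁻¹ * (o * x * o⁻¹) * g = (g⁻¹ * o * g) * (g⁻¹ * x * g) * (g⁻¹ * o * g)⁻¹ := by
    intro o x; group
  have key2 : ∀ (x y : G), g⁻¹ * (x * y) * g = (g⁻¹ * x * g) * (g⁻¹ * y * g) := by
    intro x y; group
  have hz' : g⁻¹ * z * g = z := by rw [mul_assoc, ← hz, inv_mul_cancel_left]
  have inj : ∀ {x y : G}, g⁻¹ * x * g = g⁻¹ * y * g → x = y := fun {x y} h =>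
    mul_left_cancel (mul_right_cancel h)
  have hmv : ∀ {o : G}, (∃ u ∈ cj g U, o * u ≠ u * o) → ∃ u ∈ U, (g⁻¹ * o * g) * u ≠ u * (g⁻¹ * o * g) := by
    rintro o ⟨u, hu, hne⟩
    refine ⟨g⁻¹ * u * g, mem_cj.1 hu, fun h1 => hne (inj ?_)⟩
    rw [key2, key2]
    exact h1
  have hce : ∀ o : G, ce (cj g U) o = cj g (ce U (g⁻¹ * o * g)) := by
    intro o
    ext x
    rw [mem_ce, mem_cj, mem_cj, mem_ce]
    constructor
    · rintro ⟨h1, h2⟩
      refine ⟨h1, ?_⟩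
      rw [← key2, h2, key2]
    · rintro ⟨h1, h2⟩
      refine ⟨h1, inj ?_⟩
      rw [key2, h2, ← key2]
  refine ⟨by rw [card_cj, h.card], ?_, ?_, ?_, ?_, h.z1, cj_mono g h.DU, ?_, ?_, ?_, ?_, ?_, ?_, ?_⟩
  · intro x hx y hy
    refine inj ?_
    rw [key2, key2]
    exact h.ab _ (mem_cj.1 hx) _ (mem_cj.1 hy)
  · intro x hx
    refine inj ?_
    rw [key2]
    simpa using h.sq _ (mem_cj.1 hx)
  · intro o ho u hu
    rw [mem_cj, key]
    exact h.nor _ (hO o ho) _ (mem_cj.1 hu)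
  · rw [mem_cj, hz']
    exact h.zU
  · obtain ⟨v, hv, hvD⟩ := h.Dne
    refine ⟨g * v * g⁻¹, ?_, ?_⟩
    · rw [mem_cj]
      have : g⁻¹ * (g * v * g⁻¹) * g = v := by group
      rwa [this]
    · rw [mem_cj]
      have : g⁻¹ * (g * v * g⁻¹) * g = v := by group
      rwa [this]
  · intro o ho u hu
    rw [mem_cj, key2, key]
    exact h.s1 _ (hO o ho) _ (mem_cj.1 hu)
  · intro o ho d hd
    rcases h.s2 _ (hO o ho) _ (mem_cj.1 hd) with h1 | h1
    · left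
      refine inj ?_
      rw [key2, key, h1]
      group
    · right
      refine inj ?_
      rw [key2, key, h1, hz']
  · intro o ho hm v hv hvD
    obtain ⟨h1, h2⟩ := h.s3 _ (hO o ho) (hmv hm) _ (mem_cj.1 hv) fun h3 => hvD (mem_cj.2 h3)
    constructor
    · intro h3
      apply h1
      rw [← key, ← key2, h3]
      group
    · intro h3
      apply h2
      rw [← key, ← key2, h3, hz']
  · intro o ho hm
    rw [hce, card_cj]
    exact h.c4 _ (hO o ho) (hmv hm)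
  · intro o ho u hu
    refine inj ?_
    rw [key, key2, key]
    exact h.c5 _ (hO o ho) _ (mem_cj.1 hu)
  · intro o ho o' ho' h1 u hu
    refine inj ?_
    rw [key, key]
    refine h.s4 _ (hO o ho) _ (hO o' ho') ?_ _ (mem_cj.1 hu)
    rw [hce, hce] at h1
    have := congrArg (cj g⁻¹) h1
    rwa [cj_inv_cj, cj_inv_cj] at this

end Loc

end Cfsg.Agent.Omega.OM.Swap
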