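import Cfsg.Agent.Omega.OM.Line
import Cfsg.Agent.Omega.OM.FixPt
import Cfsg.Agent.Omega.NOne.LemmaT

/-!
# THEOREM SW (#18741), STEP 0: pairs `(T, F)` inside every subgroup of characteristic 2 over `B` not contained in `M`
-/

set_option autoImplicit false

namespace Cfsg.Agent.Omega.OM.Swap

open Subgroup Cfsg Cfsg.Agent.ZN.ChoiceBase Cfsg.Agent.ZN.ChoiceSit
open Cfsg.Agent.ZN (jj zj bau zc zl o2)
open Cfsg.Agent.MinSimple.MinParabolic (IsMinPar)
open Cfsg.Agent.MinSimple.VModule (oddGen oddGen_le)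
open Cfsg.Agent.Omega.OM.Dich (K0)
open Cfsg.Agent.Omega.OM.BlkGen (FBlk)

universe u

variable {G : Type u} [Group G] [Finite G]

/-- **(F1)** a conjugate of `B` inside `M` is a conjugate by an element of `M`. -/
theorem mem_of_cj_bau_le (S : Sylow 2 G) {M : Subgroup G} (hSM : (S : Subgroup G) ≤ M)
    (hN : normalizer (bau (S : Subgroup G) : Set G) ≤ M) {g : G} (h : cj g (bau (S : Subgroup G)) ≤ M) : g ∈ M := by
  have hS : Syl (S : Subgroup G) M := ⟨hSM, S.isPGroup', fun Q _ hQ hle => S.is_maximal' hQ hle⟩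
  have h2 : IsPGroup 2 (cj g (bau (S : Subgroup G))) := isPGroup_cj g (S.isPGroup'.to_le (bau_le _))
  obtain ⟨T, hT, hle⟩ := exists_syl h2 h
  obtain ⟨m, hm, rfl⟩ := syl_conj hS hT
  have h3 : bau (S : Subgroup G) ≤ cj (g⁻¹ * m) (S : Subgroup G) := by
    rw [← cj_cj]
    exact cj_le_iff.1 hle
  have h4 := LemmaK.Main.bau_eq S (isPGroup_cj _ S.isPGroup') h3
  rw [bau_cj] at h4
  have h5 : g⁻¹ * m ∈ M := hN (mem_normalizer_iff_cj.2 h4)
  have h6 := mul_mem hm (inv_mem h5)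
  have e : m * (g⁻¹ * m)⁻¹ = g := by group
  rwa [e] at h6

/-- The pairs `(T, F)` of STEP 0. -/
structure Pair (S : Sylow 2 G) (P M T F : Subgroup G) : Prop where
  syl : Syl T F
  BT : bau (S : Subgroup G) ≤ T
  nM : ¬ F ≤ M
  min : ∀ K : Subgroup G, T ≤ K → K < F → K ≤ M
  nJ : ¬ jj (S : Subgroup G) ≤ o2 F
  VO : zl (S : Subgroup G) P ≤ o2 F
  fix : zj (S : Subgroup G) ⊓ centralizer (o2 F : Set G) ≤ centralizer (F : Set G)

theorem norm_jj_le (S : Sylow 2 G) {M : Subgroup G}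
    (hD : centralizer (zj (S : Subgroup G) : Set G) ≤ M) (hN : normalizer (bau (S : Subgroup G) : Set G) ≤ M) :
    normalizer (jj (S : Subgroup G) : Set G) ≤ M := by
  have h6 : normalizer (jj (S : Subgroup G) : Set G) ≤ normalizer (zj (S : Subgroup G) : Set G) := by
    have h7 := normalizer_le_of_cj (F := zj) zj_cj (jj (S : Subgroup G))
    have h8 : zj (jj (S : Subgroup G)) = zj (S : Subgroup G) :=
      zj_congr (jj_eq_of_jj_le le_rfl (jj_le _))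
    rwa [h8] at h7
  exact h6.trans ((Dich.norm_zj_le S).trans (sup_le hD hN))

theorem zj_le_bau (S : Subgroup G) : zj S ≤ bau S := by
  rw [← zc_bau]
  exact zc_le _

section line

variable {ι : Type} [Finite ι] {S : Sylow 2 G} {P : Subgroup G} {L W Z C A : ι → Subgroup G} {q : ℕ}

/-- a 2-group over `B` normalises `V`. -/
theorem two_norm (h : Line S P L W Z C A q) {T : Subgroup G} (hT : IsPGroup 2 T)
    (hB : bau (S : Subgroup G) ≤ T) : T ≤ normalizer (zl (S : Subgroup G) P : Set G) :=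
  (Dich.two_le S hT hB).trans h.norm_le

theorem V_le_bau (h : Line S P L W Z C A q) : zl (S : Subgroup G) P ≤ bau (S : Subgroup G) :=
  h.fr.VQ.trans h.fr.QB

/-- `V ≤ O₂(Y)` if `Y` centralises `Ω₁(Z(T))`, `B ≤ T ≤ Y`. -/
theorem V_le_o2 (h : Line S P L W Z C A q) {T Y : Subgroup G} (hT : IsPGroup 2 T)
    (hB : bau (S : Subgroup G) ≤ T) (hTY : T ≤ Y) (hY : Y ≤ centralizer (zc T : Set G)) :
    zl (S : Subgroup G) P ≤ o2 Y := by
  obtain ⟨S', hS'⟩ := hT.exists_le_sylow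
  obtain ⟨g, hg⟩ := MulAction.exists_smul_eq G S S'
  have hg2 : (S' : Subgroup G) = cj g (S : Subgroup G) := by
    rw [← hg, Sylow.coe_subgroup_smul]
    rfl
  have h1 := LemmaK.Main.bau_eq S S'.isPGroup' (hB.trans hS')
  have h2 := LemmaK.Main.zj_eq S S'.isPGroup' (hB.trans hS')
  have hgN : g ∈ normalizer (bau (S : Subgroup G) : Set G) := by
    rw [mem_normalizer_iff_cj, ← bau_cj, ← hg2, h1]
  have h3 : zc (S' : Subgroup G) ≤ zc T := by
    intro z hz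
    have h4 : z ∈ T := by
      have := zc_le_zj _ hz
      rw [h2] at this
      exact hB (zj_le_bau _ this)
    obtain ⟨h5, h6, h7⟩ := mem_zc.1 hz
    exact mem_zc.2 ⟨h4, h6, fun y hy => h7 y (hS' hy)⟩
  have h4 : Y ≤ centralizer (zc (S' : Subgroup G) : Set G) := hY.trans (centralizer_le h3)
  have h5 : zl (S : Subgroup G) P ≤ o2 (centralizer (zc (S' : Subgroup G) : Set G)) := by
    have h6 := cj_mono g (h.hyp.low P h.hyp.star)
    rw [(h.norm hgN).1, ← pCore_cj, cj_centralizer, ← LemmaK.Main.zc_cj, ← hg2] at h6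
    exact h6
  have h6 : zl (S : Subgroup G) P ≤ o2 (centralizer (zc (S' : Subgroup G) : Set G)) ⊓ Y :=
    le_inf h5 (((V_le_bau h).trans hB).trans hTY)
  refine h6.trans (le_o2 ((isPGroup_o2 _).to_le inf_le_left) inf_le_right ?_)
  intro y hy
  rw [mem_normalizer_iff_cj, cj_inf, cj_eq_of_mem_normalizer (le_normalizer_o2 _ (h4 hy)),
    cj_eq_of_mem_normalizer (le_normalizer hy)]

/-- **Existence of pairs.** -/
theorem exists_pair (h : Line S P L W Z C A q) (hFF : FFThm.Stmt.{u}) (hA : FFBr.AStmt.{u}) {M H : Subgroup G}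
    (hK : K0 (S : Subgroup G) (FBlk (S : Subgroup G)) ≤ M) (hN : normalizer (bau (S : Subgroup G) : Set G) ≤ M)
    (hB : bau (S : Subgroup G) ≤ H) (hc : H ⊓ centralizer (o2 H : Set G) ≤ o2 H) (hM : ¬ H ≤ M) :
    ∃ T F : Subgroup G, Pair S P M T F ∧ F ≤ H := by
  have : Fact (Nat.Prime 2) := ⟨Nat.prime_two⟩
  have hD : centralizer (zj (S : Subgroup G) : Set G) ≤ M := Dich.cent_le_K0.trans hK
  have hB2 : IsPGroup 2 (bau (S : Subgroup G)) := S.isPGroup'.to_le (bau_le _)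
  obtain ⟨T₀, hT₀, hBT₀⟩ := exists_syl hB2 hB
  have hg := h.gen hFF hA hK hN hT₀ hBT₀ hc
  -- the minimal parabolic `Y`
  obtain ⟨Y, ⟨hYm, hYH, hYJ, hYc, -⟩, hYM⟩ : ∃ Y : Subgroup G, (IsMinPar T₀ Y ∧ Y ≤ H ∧ ¬ jj T₀ ≤ o2 Y ∧
      Y ≤ centralizer (zc T₀ : Set G) ∧ ¬ o2 Y ≤ bau (S : Subgroup G)) ∧ ¬ Y ≤ M := by
    by_contra hcon
    push Not at hcon
    exact hM (hg.trans (sup_le inf_le_right (iSup_le fun Y => hcon Y.1 Y.2)))
  have hTM : T₀ ≤ M := (Dich.two_le S hT₀.2.1 hBT₀).trans hN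
  have hTY : Syl T₀ Y := ⟨hYm.le, hT₀.2.1, fun Q hQ h2 hTQ => hT₀.2.2 Q (hQ.trans hYH) h2 hTQ⟩
  have hcY : Y ⊓ centralizer (o2 Y : Set G) ≤ o2 Y := by
    have h4 : o2 H ≤ o2 Y :=
      le_o2 (isPGroup_o2 H) ((o2_le_syl hT₀).trans hYm.le) (hYH.trans (le_normalizer_o2 H))
    rintro x ⟨hx, hxc⟩
    exact h4 (hc ⟨hYH hx, centralizer_le (by exact_mod_cast h4) hxc⟩)
  have hVY : zl (S : Subgroup G) P ≤ o2 Y := V_le_o2 h hT₀.2.1 hBT₀ hYm.le hYc
  -- `Y₁ = O²(Y) O₂(Y) B`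
  set Y₁ : Subgroup G := oddGen Y ⊔ (o2 Y ⊔ bau (S : Subgroup G)) with hY₁
  have hY₁Y : Y₁ ≤ Y := sup_le (oddGen_le Y) (sup_le (o2_le Y) (hBT₀.trans hYm.le))
  have hOB : IsPGroup 2 (o2 Y ⊔ bau (S : Subgroup G) : Subgroup G) :=
    hT₀.2.1.to_le (sup_le (o2_le_syl hTY) hBT₀)
  obtain ⟨T, hT, hOT⟩ := exists_syl hOB (le_sup_right : o2 Y ⊔ bau (S : Subgroup G) ≤ Y₁)
  have hY₁M : ¬ Y₁ ≤ M := by
    intro hle
    apply hYM
    rw [← Dich.oddGen_sup_syl hTY]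
    exact sup_le (le_sup_left.trans hle) hTM
  obtain ⟨F, hF⟩ := (Set.toFinite {K : Subgroup G | T ≤ K ∧ K ≤ Y₁ ∧ ¬ K ≤ M}).exists_minimal
    ⟨Y₁, hT.1, le_rfl, hY₁M⟩
  obtain ⟨hTF, hFY₁, hFM⟩ := hF.prop
  have hFY : F ≤ Y := hFY₁.trans hY₁Y
  have hsyl : Syl T F := ⟨hTF, hT.2.1, fun Q hQ h2 hle => hT.2.2 Q (hQ.trans hFY₁) h2 hle⟩
  have hBT : bau (S : Subgroup G) ≤ T := le_sup_right.trans hOT
  have hOF : o2 Y ≤ o2 F :=
    le_o2 (isPGroup_o2 Y) ((le_sup_left.trans hOT).trans hTF) (hFY.trans (le_normalizer_o2 Y))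
  refine ⟨T, F, ⟨hsyl, hBT, hFM, fun K hTK hKF => ?_, fun hJ => hFM ?_, hVY.trans hOF, ?_⟩, hFY.trans hYH⟩
  · by_contra hKM
    exact hKF.not_ge (hF.le_of_le ⟨hTK, hKF.le.trans hFY₁, hKM⟩ hKF.le)
  · have hjT : jj T = jj (S : Subgroup G) := LemmaK.Main.jj_eq S hT.2.1 hBT
    have h2 : jj (o2 F) = jj (S : Subgroup G) := by
      rw [← hjT]
      exact jj_eq_of_jj_le (hjT ▸ hJ) (o2_le_syl hsyl)
    have h3 := (le_normalizer_o2 F).trans (normalizer_le_jj (o2 F))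
    rw [h2] at h3
    exact h3.trans (norm_jj_le S hD hN)
  · rintro z ⟨hz, hzc⟩
    have hzB : z ∈ bau (S : Subgroup G) := zj_le_bau _ hz
    have hzO : ∀ y ∈ o2 Y, y * z = z * y := fun y hy => mem_centralizer_iff.1 hzc y (hOF hy)
    have hz1 : z ∈ zc (o2 Y) := by
      refine mem_zc.2 ⟨hcY ⟨hYm.le (hBT₀ hzB), mem_centralizer_iff.2 hzO⟩, (mem_zj.1 hz).2.1, hzO⟩
    have hz2 : z ∈ centralizer (oddGen Y : Set G) := FixPt.fixPt hA hTY hYm hYJ hYc hz1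
    have hle : Y₁ ≤ centralizer ({z} : Set G) := by
      refine sup_le (fun y hy => ?_) (sup_le (fun y hy => ?_) fun y hy => ?_) <;>
        rw [mem_centralizer_singleton_iff]
      · exact mem_centralizer_iff.1 hz2 y hy
      · exact hzO y hy
      · exact ((mem_bau.1 hy).2 z hz).symm
    rw [mem_centralizer_iff]
    intro y hy
    exact mem_centralizer_singleton_iff.1 (hle (hFY₁ hy))

/-- `C_G(X)` has characteristic 2 for a nontrivial 2-group `X`. -/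
theorem char2_cent (hG : IsCharacteristicTwoType G) {X : Subgroup G} (hX : IsPGroup 2 X) (hX1 : X ≠ ⊥) :
    centralizer (X : Set G) ⊓ centralizer (o2 (centralizer (X : Set G)) : Set G) ≤
      o2 (centralizer (X : Set G)) :=
  NOne.LemmaT.char2_of_normal (self_cent hG ⟨X, hX, hX1, rfl⟩) (centralizer_le_normalizer _)
    (Dich.norm_cent (A := X))

end line

end Cfsg.Agent.Omega.OM.Swap
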