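import Cfsg.Agent.Omega.OM.Swap.Two
import Cfsg.Agent.ZN.ChoiceNse

/-!
# THEOREM SW: first consequences of `Sit`

`U0 V = ⟨V i⟩`, `Λ = ⟨(V i)^F⟩`; the points are the cosets `g F₀`, `g ∈ F`.
-/

set_option autoImplicit false

namespace Cfsg.Agent.Omega.OM.Swap

open Subgroup Cfsg Cfsg.Agent.ZN Cfsg.Agent.ZN.ChoiceBase Cfsg.Agent.ZN.ChoiceSit
  Cfsg.Agent.MinSimple.VModule Cfsg.Agent.Omega.OmThm
open Cfsg.Agent.MinSimple.MinParabolic (IsMinPar)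
open scoped Pointwise commutatorElement

universe u

variable {G : Type u} [Group G] {ι : Type*} {F T F₀ : Subgroup G} {V : ι → Subgroup G} {z : ι → G}

/-- `⟨V i⟩`. -/
abbrev U0 (V : ι → Subgroup G) : Subgroup G := ⨆ j, V j

/-- `Λ = ⟨(V i)^F⟩`. -/
abbrev Lam (V : ι → Subgroup G) (F : Subgroup G) : Subgroup G := NoFF.Basic.V (U0 V) F

/-- Conjugation of elements. -/
theorem conj_mem_cj {g x : G} {H : Subgroup G} (hx : x ∈ H) : g * x * g⁻¹ ∈ cj g H := by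
  rw [mem_cj]
  have : g⁻¹ * (g * x * g⁻¹) * g = x := by group
  rwa [this]

theorem cj_iSup {κ : Sort*} (g : G) (W : κ → Subgroup G) : cj g (⨆ k, W k) = ⨆ k, cj g (W k) :=
  Subgroup.map_iSup _ _

/-- An iSup of subgroups which commute elementwise is elementary abelian if all are. -/
theorem elab_iSup {κ : Sort*} {W : κ → Subgroup G} (hc : ∀ k l, ∀ x ∈ W k, ∀ y ∈ W l, x * y = y * x)
    (h2 : ∀ k, ∀ x ∈ W k, x * x = 1) :
    (∀ x ∈ ⨆ k, W k, ∀ y ∈ ⨆ k, W k, x * y = y * x) ∧ ∀ x ∈ ⨆ k, W k, x * x = 1 := by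
  have h1 : (⨆ k, W k) ≤ centralizer ((⨆ k, W k : Subgroup G) : Set G) := by
    refine iSup_le fun k => ?_
    rw [le_centralizer_iff]
    refine iSup_le fun l y hy => mem_centralizer_iff.2 fun x hx => hc k l x hx y hy
  have hcomm : ∀ x ∈ ⨆ k, W k, ∀ y ∈ ⨆ k, W k, x * y = y * x := fun x hx y hy =>
    (mem_centralizer_iff.1 (h1 hx) y hy).symm
  refine ⟨hcomm, ?_⟩
  let L : Subgroup G :=
    { carrier := {x | x ∈ ⨆ k, W k ∧ x * x = 1}
      one_mem' := ⟨one_mem _, one_mul 1⟩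
      mul_mem' := by
        rintro x y ⟨hx, hx'⟩ ⟨hy, hy'⟩
        refine ⟨mul_mem hx hy, ?_⟩
        calc x * y * (x * y) = x * (y * x) * y := by group
          _ = x * (x * y) * y := by rw [hcomm y hy x hx]
          _ = (x * x) * (y * y) := by group
          _ = 1 := by rw [hx', hy', one_mul]
      inv_mem' := by
        rintro x ⟨hx, hx'⟩
        refine ⟨inv_mem hx, ?_⟩
        rw [← mul_inv_rev, hx', inv_one] }
  have hL : (⨆ k, W k) ≤ L := iSup_le fun k x hx => ⟨le_iSup W k hx, h2 k x hx⟩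
  exact fun x hx => (hL hx).2

namespace Sit

theorem V_le_U0 (i : ι) : V i ≤ U0 V := le_iSup V i

variable (h : Sit F T F₀ V z)
include h

theorem T2 : IsPGroup 2 T := h.syl.2.1

theorem TF : T ≤ F := h.syl.1

theorem OT [Finite G] : o2 F ≤ T := o2_le_syl h.syl

theorem U0_le : U0 V ≤ o2 F := iSup_le h.VO

theorem cj_T {t : G} (ht : t ∈ T) : cj t (U0 V) = U0 V := by
  have key : ∀ t ∈ T, cj t (U0 V) ≤ U0 V := by
    intro t ht
    rw [cj_iSup]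
    refine iSup_le fun i => ?_
    obtain ⟨j, hj, -⟩ := h.perm t ht i
    rw [hj]
    exact V_le_U0 j
  refine le_antisymm (key t ht) ?_
  have h1 := cj_mono t (key t⁻¹ (inv_mem ht))
  rwa [cj_cj_inv] at h1

theorem T_nor : T ≤ normalizer (U0 V : Set G) := fun _ ht => mem_normalizer_iff_cj.2 (h.cj_T ht)

omit h in
theorem Lam_eq : Lam V F = ⨆ f : F, ⨆ i, cj (f : G) (V i) := by
  change (⨆ f : F, cj (f : G) (U0 V)) = _
  refine iSup_congr fun f => ?_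
  rw [cj_iSup]

theorem comm' {f g : G} (hf : f ∈ F) (hg : g ∈ F) {i j : ι} {x y : G} (hx : x ∈ cj f (V i)) (hy : y ∈ cj g (V j)) :
    x * y = y * x := by
  have h1 := h.comm (f⁻¹ * g) (mul_mem (inv_mem hf) hg) i j _ (mem_cj.1 hx) _ (mem_cj.1 hy)
  have e1 : f⁻¹ * g * (g⁻¹ * y * g) * (f⁻¹ * g)⁻¹ = f⁻¹ * y * f := by group
  rw [e1] at h1
  have e2 : f⁻¹ * x * f * (f⁻¹ * y * f) = f⁻¹ * (x * y) * f := by group
  have e3 : f⁻¹ * y * f * (f⁻¹ * x * f) = f⁻¹ * (y * x) * f := by group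
  rw [e2, e3] at h1
  exact mul_left_cancel (mul_right_cancel h1)

theorem sq' {f : G} {i : ι} {x : G} (hx : x ∈ cj f (V i)) : x * x = 1 := by
  have h1 := h.sq i _ (mem_cj.1 hx)
  have e2 : f⁻¹ * x * f * (f⁻¹ * x * f) = f⁻¹ * (x * x) * f := by group
  rw [e2] at h1
  have : x * x = f * (f⁻¹ * (x * x) * f) * f⁻¹ := by group
  rw [this, h1]
  group

theorem Lam_ab : (∀ x ∈ Lam V F, ∀ y ∈ Lam V F, x * y = y * x) ∧ ∀ x ∈ Lam V F, x * x = 1 := by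
  have e : Lam V F = ⨆ k : F × ι, cj (k.1 : G) (V k.2) := by
    rw [Lam_eq, iSup_prod]
  rw [e]
  exact elab_iSup (fun k l x hx y hy => h.comm' k.1.2 l.1.2 hx hy) fun k x hx => h.sq' hx

theorem Lam_comm : ∀ x ∈ Lam V F, ∀ y ∈ Lam V F, x * y = y * x := h.Lam_ab.1

theorem Lam_sq : ∀ x ∈ Lam V F, x * x = 1 := h.Lam_ab.2

theorem Lam_elab : IsElementaryAbelian 2 (Lam V F) := elab_of h.Lam_comm h.Lam_sq

omit h in
theorem cjU_le_Lam {g : G} (hg : g ∈ F) : cj g (U0 V) ≤ Lam V F := NoFF.Basic.Z_le_V hg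

omit h in
theorem cjV_le_Lam {g : G} (hg : g ∈ F) (i : ι) : cj g (V i) ≤ Lam V F :=
  (cj_mono g (V_le_U0 i)).trans (cjU_le_Lam hg)

theorem Lam_le_O : Lam V F ≤ o2 F := NoFF.Basic.V_le fun p hp => by
  have h1 : cj p (U0 V) ≤ cj p (o2 F) := cj_mono p h.U0_le
  rw [cj_o2_self hp] at h1
  exact h1

theorem Lam_le_F : Lam V F ≤ F := h.Lam_le_O.trans (ChoiceSit.o2_le F)

omit h in
theorem F_nor : F ≤ normalizer (Lam V F : Set G) := XD.X_le_normalizer_W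

omit h in
theorem conj_Lam {f x : G} (hf : f ∈ F) (hx : x ∈ Lam V F) : f * x * f⁻¹ ∈ Lam V F :=
  (mem_normalizer_iff.1 (F_nor hf) x).1 hx

/-- (TI) -/
theorem ti' {g g' : G} (hg : g ∈ F) (hg' : g' ∈ F) {i : ι} {x : G} (hx : x ∈ cj g (V i)) (hx1 : x ≠ 1)
    (hx' : x ∈ cj g' (U0 V)) : g⁻¹ * g' ∈ F₀ := by
  refine h.ti i (g⁻¹ * x * g) (mem_cj.1 hx) ?_ _ (mul_mem (inv_mem hg) hg') ?_
  · intro h1
    apply hx1
    have : x = g * (g⁻¹ * x * g) * g⁻¹ := by group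
    rw [this, h1]
    group
  · rw [mem_cj]
    have : (g⁻¹ * g')⁻¹ * (g⁻¹ * x * g) * (g⁻¹ * g') = g'⁻¹ * x * g' := by group
    rw [this]
    exact mem_cj.1 hx'

/-- An element of `F` which centralises `1 ≠ x ∈ (V i)^g` fixes the point of `g`. -/
theorem ti_cent {g a : G} (hg : g ∈ F) (ha : a ∈ F) {i : ι} {x : G} (hx : x ∈ cj g (V i)) (hx1 : x ≠ 1)
    (hax : a * x = x * a) : a ∈ cj g F₀ := by
  rw [mem_cj]
  have h1 : x ∈ cj (a * g) (U0 V) := by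
    rw [← cj_cj, mem_cj]
    have : a⁻¹ * x * a = x := by rw [mul_assoc, ← hax, inv_mul_cancel_left]
    rw [this]
    exact cj_mono g (V_le_U0 i) hx
  have h2 := h.ti' hg (mul_mem ha hg) hx hx1 h1
  rwa [← mul_assoc] at h2

theorem F₀_le : F₀ ≤ F := h.F₀F.le

theorem nJ' [Finite G] : ∃ A ∈ AA F, A ≤ T ∧ ¬ A ≤ o2 F := by
  obtain ⟨A, hA, hA'⟩ := h.nJ
  exact ⟨A, AA_of_syl h.syl hA, hA.2.1, hA'⟩

theorem T_not_normal [Finite G] : ¬ F ≤ normalizer (T : Set G) := by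
  intro h1
  obtain ⟨A, hA, hAT, hAO⟩ := h.nJ'
  exact hAO (hAT.trans (ChoiceSit.le_o2 h.T2 h.TF h1))

theorem NT [Finite G] : F ⊓ normalizer (T : Set G) ≤ F₀ :=
  h.max _ (le_inf h.TF le_normalizer) (lt_of_le_of_ne inf_le_left fun h1 =>
    h.T_not_normal (inf_eq_left.1 h1))

theorem par [Finite G] : IsMinPar T F := ⟨h.TF, h.T_not_normal, F₀, h.F₀F, h.max⟩

theorem syl_F₀ : Syl T F₀ := ⟨h.TF₀, h.T2, fun Q hQ hQ2 hTQ => h.syl.2.2 Q (hQ.trans h.F₀_le) hQ2 hTQ⟩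

/-- equal Sylow groups have equal points -/
theorem pt_of_eq [Finite G] {g g' : G} (hg : g ∈ F) (hg' : g' ∈ F) (he : cj g T = cj g' T) : g⁻¹ * g' ∈ F₀ := by
  refine h.NT (mem_inf.2 ⟨mul_mem (inv_mem hg) hg', ?_⟩)
  rw [mem_normalizer_iff_cj, ← cj_cj, ← he, cj_inv_cj]

/-- A 2-subgroup of `F` lies in a Sylow group. -/
theorem exists_cj [Finite G] {Q : Subgroup G} (hQ : IsPGroup 2 Q) (hQF : Q ≤ F) : ∃ g ∈ F, Q ≤ cj g T := by
  obtain ⟨S, hS, hQS⟩ := exists_syl hQ hQF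
  obtain ⟨x, hx, hxS⟩ := syl_conj h.syl hS
  exact ⟨x, hx, hxS ▸ hQS⟩

/-- A 2-subgroup of `F` which fixes the point of `g` lies in a Sylow group with this point. -/
theorem exists_cj_pt [Finite G] {Q : Subgroup G} (hQ : IsPGroup 2 Q) {g : G} (hg : g ∈ F) (hQF : Q ≤ cj g F₀) :
    ∃ g' ∈ F, g⁻¹ * g' ∈ F₀ ∧ Q ≤ cj g' T := by
  have h1 : cj g⁻¹ Q ≤ F₀ := by rw [cj_le_iff, inv_inv]; exact hQF
  obtain ⟨S, hS, hQS⟩ := exists_syl (isPGroup_cj g⁻¹ hQ) h1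
  obtain ⟨x, hx, hxS⟩ := syl_conj h.syl_F₀ hS
  refine ⟨g * x, mul_mem hg (h.F₀_le hx), by rwa [inv_mul_cancel_left], ?_⟩
  rw [← cj_cj, hxS]
  have := cj_mono g hQS
  rwa [cj_cj_inv] at this

/-- A proper subgroup of `F` which contains the Sylow group `T^g` fixes the point of `g`. -/
theorem le_cj_of {K : Subgroup G} {g : G} (hg : g ∈ F) (hT : cj g T ≤ K) (hK : K < F) : K ≤ cj g F₀ := by
  have h1 : cj g⁻¹ K ≤ F₀ := by
    refine h.max _ ?_ ?_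
    · rw [← cj_inv_cj g T]
      exact cj_mono g⁻¹ hT
    · have h2 : cj g⁻¹ K ≤ F := by
        have := cj_mono g⁻¹ hK.le
        rwa [cj_self (inv_mem hg)] at this
      refine lt_of_le_of_ne h2 fun h3 => hK.ne ?_
      have := congrArg (cj g) h3
      rwa [cj_cj_inv, cj_self hg] at this
  rw [← cj_cj_inv g K]
  exact cj_mono g h1

theorem cj_T_le {g : G} : cj g T ≤ cj g F₀ := cj_mono g h.TF₀

/-- `O₂(F)` lies in all Sylow groups. -/
theorem O_le_cj [Finite G] {g : G} (hg : g ∈ F) : o2 F ≤ cj g T := by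
  have := cj_mono g h.OT
  rwa [cj_o2_self hg] at this

/-- If the Sylow group `T^{g'}` fixes the point of `g`, the points are equal. -/
theorem pt_of_le [Finite G] {g g' : G} (hg : g ∈ F) (hg' : g' ∈ F) (hle : cj g' T ≤ cj g F₀) : g⁻¹ * g' ∈ F₀ := by
  obtain ⟨k, hk, hk1, hk2⟩ := h.exists_cj_pt (isPGroup_cj g' h.T2) hg hle
  have h1 : cj g' T = cj k T := eq_of_le_of_card_ge hk2 (by rw [card_cj, card_cj])
  have h2 := h.pt_of_eq hk hg' h1.symm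
  have h3 := mul_mem hk1 h2
  have e : g⁻¹ * k * (k⁻¹ * g') = g⁻¹ * g' := by group
  rwa [e] at h3

end Sit

end Cfsg.Agent.Omega.OM.Swap
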