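import Cfsg.Agent.Omega.OM.Swap.Pan

/-!
# THEOREM SW, STEP 1: (a), (b), (c)

* `Pan.quad` : (a) `A` is quadratic on `(V i)^{yg}` for `y ∈ Y` which moves the point of `g`;
* `Pan.exists_move` : (b) `A ∩ O₂(Y)` moves one of these;
* `Pan.main` : (c) the star configuration.
-/

set_option autoImplicit false

namespace Cfsg.Agent.Omega.OM.Swap

open Subgroup Cfsg Cfsg.Agent.ZN Cfsg.Agent.ZN.ChoiceBase Cfsg.Agent.ZN.ChoiceSit
  Cfsg.Agent.MinSimple.VModule Cfsg.Agent.Omega.OmThm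
open Cfsg.Agent.MinSimple.MinParabolic (IsMinPar)
open scoped Pointwise commutatorElement

universe u

variable {G : Type u} [Group G] {ι : Type*} {F T F₀ : Subgroup G} {V : ι → Subgroup G} {z : ι → G}

namespace Sit

variable (h : Sit F T F₀ V z)
include h

/-- (H4) `z i ∈ [⟨V j⟩, O]`. -/
theorem z_mem_comm [Finite G] (i : ι) : z i ∈ (⁅U0 V, o2 F⁆ : Subgroup G) := by
  obtain ⟨k, hk⟩ : ∃ k, k ≠ i := by
    obtain ⟨k, l, hkl⟩ := h.two
    by_cases h1 : k = i
    · exact ⟨l, fun h2 => hkl (h1.trans h2.symm)⟩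
    · exact ⟨k, h1⟩
  obtain ⟨s, hs, hsV⟩ := h.tr i k
  obtain ⟨A₁, hA₁, hm⟩ := h.mov i
  obtain ⟨t, ht, ⟨x, hx, htx⟩, htriv⟩ := h.hat A₁ hA₁ i hm
  have h1 : t * x * t⁻¹ = x * z i := by
    rcases h.act A₁ hA₁ t ht i x hx with h2 | h2
    · exact absurd (mul_inv_eq_iff_eq_mul.1 h2) htx
    · exact h2
  have htF : t ∈ F := h.TF (hA₁.2.1 ht)
  set o := t * (s⁻¹ * t⁻¹ * s) with ho
  have hoO : o ∈ o2 F := by
    have h2 : t * s⁻¹ * t⁻¹ ∈ o2 F := (mem_normalizer_iff.1 (ChoiceSit.le_normalizer_o2 F htF) _).1 (inv_mem hs)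
    have h3 := mul_mem h2 hs
    have e : t * s⁻¹ * t⁻¹ * s = o := by rw [ho]; group
    rwa [e] at h3
  have hsx : s * x * s⁻¹ ∈ V k := by rw [← hsV]; exact conj_mem_cj hx
  have h4 : t * (s * x * s⁻¹) = s * x * s⁻¹ * t := htriv k hk _ hsx
  have h5 : o * x * o⁻¹ = x * z i := by
    calc o * x * o⁻¹ = t * (s⁻¹ * (t⁻¹ * (s * x * s⁻¹ * t)) * s) * t⁻¹ := by rw [ho]; group
      _ = t * (s⁻¹ * (t⁻¹ * (t * (s * x * s⁻¹))) * s) * t⁻¹ := by rw [h4]
      _ = t * x * t⁻¹ := by group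
      _ = x * z i := h1
  have h6 : ⁅x, o⁆ = z i := by
    have hz : (z i)⁻¹ = z i := inv_eq_of_mul_eq_one_left (h.sq i _ (h.zV i))
    have hx' : x⁻¹ = x := inv_eq_of_mul_eq_one_left (h.sq i _ hx)
    have hzx : x * z i = z i * x := by
      have := h.comm' (one_mem F) (one_mem F) (i := i) (j := i) (x := x) (y := z i) (by rwa [cj_one]) (by rw [cj_one]; exact h.zV i)
      exact this
    calc ⁅x, o⁆ = x * (o * x * o⁻¹)⁻¹ := by rw [commutatorElement_def]; group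
      _ = x * (x * z i)⁻¹ := by rw [h5]
      _ = x * ((z i)⁻¹ * x⁻¹) := by rw [mul_inv_rev]
      _ = x * (z i * x) := by rw [hz, hx']
      _ = x * (x * z i) := by rw [hzx]
      _ = z i := by rw [← mul_assoc, h.sq i x hx, one_mul]
  rw [← h6]
  exact commutator_mem_commutator (V_le_U0 i hx) hoO

/-- The members of `𝒜(F)` in `T^k` act on `(V i)^k` by transvections with centre `z i ^ k`. -/
theorem JF_act [Finite G] {k : G} (hk : k ∈ F) {b : G} (hb : b ∈ JF F (cj k T)) {i : ι} {x : G}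
    (hx : x ∈ cj k (V i)) : b * x * b⁻¹ = x ∨ b * x * b⁻¹ = x * (k * z i * k⁻¹) := by
  set ζ := k * z i * k⁻¹ with hζ
  have hζV : ζ ∈ cj k (V i) := conj_mem_cj (h.zV i)
  have hζ1 : ζ ≠ 1 := by
    intro h1
    apply h.z1 i
    have : z i = k⁻¹ * (k * z i * k⁻¹) * k := by group
    rw [this, ← hζ, h1]
    group
  have hζζ : ζ * ζ = 1 := h.sq' hζV
  have hfixζ : ∀ b : G, (∀ x ∈ cj k (V i), b * x * b⁻¹ = x ∨ b * x * b⁻¹ = x * ζ) → b * ζ * b⁻¹ = ζ := by
    intro b hb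
    rcases hb ζ hζV with h1 | h1
    · exact h1
    · exfalso
      rw [hζζ] at h1
      apply hζ1
      have : ζ = b⁻¹ * (b * ζ * b⁻¹) * b := by group
      rw [this, h1]
      group
  let L : Subgroup G :=
    { carrier := {b | ∀ x ∈ cj k (V i), b * x * b⁻¹ = x ∨ b * x * b⁻¹ = x * ζ}
      one_mem' := fun x _ => Or.inl (by group)
      mul_mem' := by
        intro b c hb hc x hx
        have hbζ := hfixζ b hb
        have e : b * c * x * (b * c)⁻¹ = b * (c * x * c⁻¹) * b⁻¹ := by group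
        rw [e]
        rcases hc x hx with h1 | h1
        · rw [h1]
          exact hb x hx
        · rw [h1]
          have e2 : b * (x * ζ) * b⁻¹ = (b * x * b⁻¹) * (b * ζ * b⁻¹) := by group
          rw [e2, hbζ]
          rcases hb x hx with h2 | h2
          · right; rw [h2]
          · left; rw [h2, mul_assoc, hζζ, mul_one]
      inv_mem' := by
        intro b hb x hx
        have hn : b ∈ normalizer ((cj k (V i) : Subgroup G) : Set G) := by
          refine mem_normalizer_of_cj_le fun w hw => ?_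
          rw [mem_cj] at hw
          have e : w = b * (b⁻¹ * w * b) * b⁻¹ := by group
          rw [e]
          rcases hb _ hw with h1 | h1
          · rw [h1]; exact hw
          · rw [h1]; exact mul_mem hw hζV
        have hy : b⁻¹ * x * b ∈ cj k (V i) := by
          have := (mem_normalizer_iff.1 (inv_mem hn) x).1 hx
          rwa [inv_inv] at this
        rw [inv_inv]
        have e : b * (b⁻¹ * x * b) * b⁻¹ = x := by group
        rcases hb _ hy with h1 | h1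
        · rw [e] at h1
          exact Or.inl h1.symm
        · rw [e] at h1
          right
          calc b⁻¹ * x * b = b⁻¹ * x * b * (ζ * ζ) := by rw [hζζ, mul_one]
            _ = (b⁻¹ * x * b * ζ) * ζ := by group
            _ = x * ζ := by rw [← h1] }
  have hL : JF F (cj k T) ≤ L := by
    refine sSup_le fun A₁ hA₁ b hb x hx => ?_
    have h1 : cj k⁻¹ A₁ ∈ AA T := by
      have h2 : cj k⁻¹ A₁ ≤ T := by
        rw [cj_le_iff, inv_inv]
        exact hA₁.2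
      exact AA_of_le (AA_cj (inv_mem hk) hA₁.1) h2 h.TF
    have h2 : k⁻¹ * b * k ∈ cj k⁻¹ A₁ := by
      have := conj_mem_cj (g := k⁻¹) hb
      rwa [inv_inv] at this
    have h3 := h.act _ h1 _ h2 i (k⁻¹ * x * k) (mem_cj.1 hx)
    have e1 : k⁻¹ * b * k * (k⁻¹ * x * k) * (k⁻¹ * b * k)⁻¹ = k⁻¹ * (b * x * b⁻¹) * k := by group
    rw [e1] at h3
    rcases h3 with h3 | h3
    · left
      exact mul_left_cancel (mul_right_cancel h3)
    · right
      have e2 : k⁻¹ * x * k * z i = k⁻¹ * (x * ζ) * k := by rw [hζ]; group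
      rw [e2] at h3
      exact mul_left_cancel (mul_right_cancel h3)
  exact hL hb x hx

end Sit

namespace Pan

variable {R A Y Rs : Subgroup G} {g : G} (p : Pan F T F₀ V R A Y Rs g)
include p

/-- **(a)** -/
theorem quad [Finite G] (h : Sit F T F₀ V z) {y : G} (hy : y ∈ Y) (hyn : y ∉ cj g F₀) {i : ι} {x : G}
    (hx : x ∈ cj (y * g) (V i)) {a b : G} (ha : a ∈ A) (hb : b ∈ A) :
    b * (x * (a * x * a⁻¹)) = x * (a * x * a⁻¹) * b := by
  classical
  set k := y * g with hk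
  have hkF : k ∈ F := p.yF hy
  set l := cj k (V i) with hl
  have hlΛ : l ≤ Lam V F := Sit.cjV_le_Lam hkF i
  have hmain : ⁅l, A⁆ ≤ centralizer (A : Set G) := by
    by_contra hcon
    have h1 := rep p.hA h.Lam_elab h.Lam_le_F Sit.F_nor hlΛ
    have h2 := rep_lt p.hA h.Lam_elab h.Lam_le_F Sit.F_nor hlΛ hcon
    have h3 := rep_cent p.hA h.Lam_elab h.Lam_le_F Sit.F_nor hlΛ
    set B : Subgroup G := A ⊓ centralizer ((⁅l, A⁆ : Subgroup G) : Set G) with hB
    set Ap : Subgroup G := B ⊔ (Lam V F ⊓ centralizer (B : Set G)) with hAp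
    have hApN : Ap ≤ normalizer (R : Set G) :=
      sup_le (inf_le_left.trans p.AN) (inf_le_left.trans (h.Lam_le_O.trans p.mx.On))
    have hApR : Ap ≤ R := by
      by_contra h4
      exact absurd (p.Amax Ap h1.2 hApN h4) (not_le.2 h2)
    have hRk : R ≤ JF F (cj k T) := p.mx.gen.symm.le.trans (JF_mono (p.R_le_o2.trans (p.o2_le_cj hy)))
    -- some `b ∈ B` moves `t ∈ l`
    obtain ⟨b, hb, t, ht, hbt⟩ : ∃ b ∈ B, ∃ t ∈ l, b * t ≠ t * b := by
      by_contra h4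
      push Not at h4
      apply hcon
      have h5 : ⁅l, A⁆ = ⊥ := commutator_eq_bot_iff_le_centralizer.2 (h3 h4)
      rw [h5]
      exact bot_le
    set ζ := k * z i * k⁻¹ with hζ
    have hbt' : b * t * b⁻¹ = t * ζ := by
      rcases h.JF_act hkF (hRk (hApR (le_sup_left (a := B) hb))) ht with h4 | h4
      · exact absurd (mul_inv_eq_iff_eq_mul.1 h4) hbt
      · exact h4
    have hζl : ζ ∈ l := conj_mem_cj (h.zV i)
    have hζ1 : ζ ≠ 1 := by
      intro h4
      rw [h4, mul_one] at hbt'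
      exact hbt (mul_inv_eq_iff_eq_mul.1 hbt')
    -- `A` centralises `ζ`
    refine p.not_fix h hy hyn fun a ha => ?_
    refine h.ti_cent hkF (p.hA.2.1 ha) hζl hζ1 ?_
    have hcm : b * ⁅t, a⁆ = ⁅t, a⁆ * b :=
      (mem_centralizer_iff.1 hb.2 _ (commutator_mem_commutator ht ha)).symm
    have hab : b * a = a * b := elab_comm p.hA.1 b hb.1 a ha
    have e1 : b * (a * t * a⁻¹) * b⁻¹ = a * t * a⁻¹ * (a * ζ * a⁻¹) := by
      have hab' : a⁻¹ * b⁻¹ = b⁻¹ * a⁻¹ := by rw [← mul_inv_rev, ← mul_inv_rev, hab]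
      calc b * (a * t * a⁻¹) * b⁻¹ = (b * a) * t * (a⁻¹ * b⁻¹) := by group
        _ = (a * b) * t * (b⁻¹ * a⁻¹) := by rw [hab, hab']
        _ = a * (b * t * b⁻¹) * a⁻¹ := by group
        _ = a * (t * ζ) * a⁻¹ := by rw [hbt']
        _ = _ := by group
    have e2 : b * (a * t * a⁻¹) * b⁻¹ = a * t * a⁻¹ * ζ := by
      have e3 : a * t * a⁻¹ = ⁅t, a⁆⁻¹ * t := by rw [commutatorElement_def]; group
      have hcm' : b * ⁅t, a⁆⁻¹ = ⁅t, a⁆⁻¹ * b := by
        have h5 : b⁻¹ * ⁅t, a⁆ = ⁅t, a⁆ * b⁻¹ := by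
          rw [inv_mul_eq_iff_eq_mul, ← mul_assoc, hcm, mul_inv_cancel_right]
        calc b * ⁅t, a⁆⁻¹ = (⁅t, a⁆ * b⁻¹)⁻¹ := by group
          _ = (b⁻¹ * ⁅t, a⁆)⁻¹ := by rw [h5]
          _ = _ := by group
      rw [e3]
      calc b * (⁅t, a⁆⁻¹ * t) * b⁻¹ = (b * ⁅t, a⁆⁻¹) * t * b⁻¹ := by group
        _ = (⁅t, a⁆⁻¹ * b) * t * b⁻¹ := by rw [hcm']
        _ = ⁅t, a⁆⁻¹ * (b * t * b⁻¹) := by group
        _ = ⁅t, a⁆⁻¹ * (t * ζ) := by rw [hbt']
        _ = _ := by group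
    rw [e1] at e2
    have e4 := mul_left_cancel e2
    rw [mul_inv_eq_iff_eq_mul] at e4
    exact e4
  have hxi : x⁻¹ = x := inv_eq_of_mul_eq_one_left (h.sq' hx)
  have h1 : ⁅x, a⁆ = x * (a * x * a⁻¹) := by
    rw [commutatorElement_def, hxi]; group
  rw [← h1]
  exact mem_centralizer_iff.1 (hmain (commutator_mem_commutator hx ha)) b hb

/-- The group `K' = ⟨(V i)^{yg} : y ∈ Y moves the point⟩`. -/
def KK (V : ι → Subgroup G) (F₀ Y : Subgroup G) (g : G) : Subgroup G :=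
  ⨆ y : {y : G // y ∈ Y ∧ y ∉ cj g F₀}, cj ((y : G) * g) (U0 V)

omit p in
theorem le_KK {y : G} (hy : y ∈ Y) (hyn : y ∉ cj g F₀) : cj (y * g) (U0 V) ≤ KK V F₀ Y g :=
  le_iSup (fun y : {y : G // y ∈ Y ∧ y ∉ cj g F₀} => cj ((y : G) * g) (U0 V)) ⟨y, hy, hyn⟩

theorem KK_le : KK V F₀ Y g ≤ Lam V F := iSup_le fun y => Sit.cjU_le_Lam (p.yF y.2.1)

/-- quadratic on `Λ_y` -/
theorem quad' [Finite G] (h : Sit F T F₀ V z) {y : G} (hy : y ∈ Y) (hyn : y ∉ cj g F₀) {x : G}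
    (hx : x ∈ cj (y * g) (U0 V)) {a b : G} (ha : a ∈ A) (hb : b ∈ A) :
    b * (x * (a * x * a⁻¹)) = x * (a * x * a⁻¹) * b := by
  have haF := p.hA.2.1 ha
  let L : Subgroup G :=
    { carrier := {x | x ∈ Lam V F ∧ b * (x * (a * x * a⁻¹)) = x * (a * x * a⁻¹) * b}
      one_mem' := ⟨one_mem _, by simp⟩
      mul_mem' := by
        rintro x w ⟨hx, hx'⟩ ⟨hw, hw'⟩
        refine ⟨mul_mem hx hw, ?_⟩
        have h1 := h.Lam_comm w hw _ (Sit.conj_Lam haF hx)
        have e : x * w * (a * (x * w) * a⁻¹) = (x * (a * x * a⁻¹)) * (w * (a * w * a⁻¹)) := by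
          calc x * w * (a * (x * w) * a⁻¹) = x * (w * (a * x * a⁻¹)) * (a * w * a⁻¹) := by group
            _ = x * ((a * x * a⁻¹) * w) * (a * w * a⁻¹) := by rw [h1]
            _ = _ := by group
        rw [e]
        calc b * ((x * (a * x * a⁻¹)) * (w * (a * w * a⁻¹))) = (b * (x * (a * x * a⁻¹))) * (w * (a * w * a⁻¹)) := by
              group
          _ = (x * (a * x * a⁻¹)) * (b * (w * (a * w * a⁻¹))) := by rw [hx']; group
          _ = _ := by rw [hw']; group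
      inv_mem' := by
        rintro x ⟨hx, hx'⟩
        have : x⁻¹ = x := inv_eq_of_mul_eq_one_left (h.Lam_sq x hx)
        rw [this]
        exact ⟨hx, hx'⟩ }
  have hL : cj (y * g) (U0 V) ≤ L := by
    rw [cj_iSup]
    exact iSup_le fun i w hw => ⟨Sit.cjV_le_Lam (p.yF hy) i hw, p.quad h hy hyn hw ha hb⟩
  exact (hL hx).2

/-- **(b), first case.** -/
theorem not_case_one [Finite G] (h : Sit F T F₀ V z) (hc : A ⊓ o2 Y ≤ centralizer (KK V F₀ Y g : Set G)) :
    ¬ cj g (U0 V) ≤ KK V F₀ Y g := by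
  intro hle
  set VA := cj g (U0 V) with hVA
  set ΛY := NoFF.Basic.V VA Y with hΛY
  have hΛK : ΛY ≤ KK V F₀ Y g := by
    refine NoFF.Basic.V_le fun y hy => ?_
    change cj y (cj g (U0 V)) ≤ _
    rw [cj_cj]
    by_cases hyn : y ∈ cj g F₀
    · have h1 : cj y (KK V F₀ Y g) ≤ KK V F₀ Y g := by
        rw [KK, cj_iSup]
        refine iSup_le fun w => ?_
        rw [cj_cj, ← mul_assoc]
        refine le_KK (mul_mem hy w.2.1) fun h2 => w.2.2 ?_
        have := mul_mem (inv_mem hyn) h2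
        rwa [inv_mul_cancel_left] at this
      rw [← cj_cj]
      exact (cj_mono y hle).trans h1
    · exact le_KK hy hyn
  have hΛL : ΛY ≤ Lam V F := hΛK.trans p.KK_le
  have hel : IsElementaryAbelian 2 ΛY := elab_mono h.Lam_elab hΛL
  have hζ : ∀ i, g * z i * g⁻¹ ∈ cj g (V i) := fun i => conj_mem_cj (h.zV i)
  have hζ1 : ∀ i, g * z i * g⁻¹ ≠ 1 := by
    intro i h1
    apply h.z1 i
    have : z i = g⁻¹ * (g * z i * g⁻¹) * g := by group
    rw [this, h1]
    group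
  obtain ⟨i, -, -⟩ := h.two
  have hYgen : Y ≤ oddGen Y ⊔ Rs := (Dich.oddGen_sup_syl p.syl).ge
  have xd : XD Rs Y VA := by
    refine ⟨p.Rs2, p.RsY, hYgen, p.o2_le_Rs, ?_, elab_comm hel, elab_sq hel, ?_⟩
    · refine p.RsT.trans ?_
      rw [← cj_normalizer]
      exact cj_mono g h.T_nor
    · intro h1
      obtain ⟨y, hy, hyn⟩ := SetLike.not_le_iff_exists.1 p.nY
      apply hyn
      have h2 : cj (y * g) (U0 V) = cj g (U0 V) := by
        rw [← cj_cj]
        exact cj_eq_of_mem_normalizer (h1 hy)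
      have h3 := h.ti' p.gF (p.yF hy) (hζ i) (hζ1 i) (by rw [h2]; exact cj_mono g (Sit.V_le_U0 i) (hζ i))
      rw [mem_cj]
      rwa [← mul_assoc] at h3
  have hno : NoOv Y ΛY := noOv p.syl p.par (elab_comm hel) (elab_sq hel)
  have h2 : ∃ c ∈ (⁅ΛY, o2 Y⁆ : Subgroup G), ∃ x ∈ oddGen Y, c * x ≠ x * c := by
    refine ⟨g * z i * g⁻¹, ?_, ?_⟩
    · have h3 : g * z i * g⁻¹ ∈ cj g (⁅U0 V, o2 F⁆ : Subgroup G) := conj_mem_cj (h.z_mem_comm i)
      have h4 : cj g (⁅U0 V, o2 F⁆ : Subgroup G) = ⁅cj g (U0 V), cj g (o2 F)⁆ := map_commutator _ _ _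
      rw [h4, cj_o2_self p.gF] at h3
      refine commutator_mono ?_ p.O_le_o2 h3
      have := NoFF.Basic.Z_le_V (Z := VA) (P := Y) (one_mem Y)
      rwa [map_one, one_smul] at this
    · by_contra hcon
      push Not at hcon
      apply p.nY
      refine hYgen.trans (sup_le (fun x hx => ?_) (p.RsF₀ h))
      exact h.ti_cent p.gF (p.YF (oddGen_le Y hx)) (hζ i) (hζ1 i) (hcon x hx).symm
  have h3 := xd.sq_le hno h2 p.AY (elab_sq p.hA.1)
  have h4 := relIndex_le p.hA hel (hΛL.trans h.Lam_le_F)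
  have h5 : (centralizer (ΛY : Set G)).relIndex A ≤ (o2 Y).relIndex A := by
    rw [← inf_relIndex_right (o2 Y) A]
    refine relIndex_le_of_le_left ?_ (relIndex_ne _ _)
    rw [inf_comm]
    exact hc.trans (centralizer_le hΛK)
  have h6 := h3.trans (h4.trans h5)
  have h7 : 0 < (o2 Y).relIndex A := Nat.pos_of_ne_zero (relIndex_ne _ _)
  have h8 : (o2 Y).relIndex A ≤ 1 := Nat.le_of_mul_le_mul_left (h6.trans (by omega)) h7
  exact p.A_not_le h (relIndex_eq_one.1 (by omega))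

end Pan

end Cfsg.Agent.Omega.OM.Swap
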