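import Cfsg.Agent.Omega.OM.Swap.One
import Cfsg.Agent.Omega.OM.Swap.Count

/-!
# THEOREM SW, STEP 1: (b) second case, (c)

* `Pan.not_cent` : (b) `A ∩ O₂(Y)` does not centralise `K' = ⟨(V i)^{yg}⟩`;
* `Pan.star` : (c) the star configuration.
-/

set_option autoImplicit false

namespace Cfsg.Agent.Omega.OM.Swap

open Subgroup Cfsg Cfsg.Agent.ZN Cfsg.Agent.ZN.ChoiceBase Cfsg.Agent.ZN.ChoiceSit
  Cfsg.Agent.MinSimple.VModule Cfsg.Agent.Omega.OmThm
open Cfsg.Agent.MinSimple.MinParabolic (IsMinPar)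
open scoped Pointwise commutatorElement

universe u

variable {G : Type u} [Group G] {ι : Type*} {F T F₀ : Subgroup G} {V : ι → Subgroup G} {z : ι → G}

namespace Sit

variable (h : Sit F T F₀ V z)
include h

/-- Points and their stabilisers correspond. -/
theorem mem_of_cj_eq [Finite G] {a k : G} (ha : a ∈ F) (hk : k ∈ F) (he : cj a (cj k F₀) = cj k F₀) :
    a ∈ cj k F₀ := by
  rw [mem_cj]
  have hx : k⁻¹ * a * k ∈ F := mul_mem (mul_mem (inv_mem hk) ha) hk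
  have h1 : cj (k⁻¹ * a * k) F₀ = F₀ := by
    rw [← cj_cj, ← cj_cj, he, cj_inv_cj]
  have h2 := h.pt_of_le (one_mem F) hx (by rw [cj_one, ← h1]; exact cj_mono _ h.TF₀)
  rwa [inv_one, one_mul] at h2

end Sit

namespace Pan

variable {R A Y Rs : Subgroup G} {g : G} (p : Pan F T F₀ V R A Y Rs g)
include p

/-- **(b)** -/
theorem not_cent [Finite G] (h : Sit F T F₀ V z) : ¬ A ⊓ o2 Y ≤ centralizer (KK V F₀ Y g : Set G) := by
  classical
  intro hc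
  have hno := p.not_case_one h hc
  have hAg : A ≤ cj g F₀ := p.ARs.trans (p.RsF₀ h)
  -- the points
  let P : Type u := {K : Subgroup G // ∃ y ∈ Y, y ∉ cj g F₀ ∧ K = cj (y * g) F₀}
  have hmemA : ∀ (a : A) (K : P), ∃ y ∈ Y, y ∉ cj g F₀ ∧ cj (a : G) K.1 = cj (y * g) F₀ := by
    rintro a ⟨K, y, hy, hyn, rfl⟩
    refine ⟨a * y, mul_mem (p.AY a.2) hy, fun h1 => hyn ?_, by rw [cj_cj, mul_assoc]⟩
    have := mul_mem (inv_mem (hAg a.2)) h1
    rwa [inv_mul_cancel_left] at this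
  let act : MulAction A P :=
    { smul := fun a K => ⟨cj (a : G) K.1, hmemA a K⟩
      one_smul := fun K => Subtype.ext (cj_one K.1)
      mul_smul := fun a b K => Subtype.ext (cj_cj (a : G) (b : G) K.1).symm }
  have hsm : ∀ (a : A) (K : P), (a • K).1 = cj (a : G) K.1 := fun a K => rfl
  let W : P → Subgroup G := fun K => ⨆ y : {y : G // y ∈ Y ∧ cj (y * g) F₀ = K.1}, cj ((y : G) * g) (U0 V)
  have hWdef : ∀ K : P, W K = ⨆ y : {y : G // y ∈ Y ∧ cj (y * g) F₀ = K.1}, cj ((y : G) * g) (U0 V) := fun _ => rfl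
  have leW : ∀ (K : P) (y : G), y ∈ Y → cj (y * g) F₀ = K.1 → cj (y * g) (U0 V) ≤ W K := fun K y hy hK =>
    le_iSup (fun y : {y : G // y ∈ Y ∧ cj (y * g) F₀ = K.1} => cj ((y : G) * g) (U0 V)) ⟨y, hy, hK⟩
  -- representatives move the point
  have hrep : ∀ (K : P) (y : G), y ∈ Y → cj (y * g) F₀ = K.1 → y ∉ cj g F₀ := by
    rintro ⟨K, y₀, hy₀, hyn₀, rfl⟩ y hy hK hyg
    apply hyn₀
    have h1 : cj y (cj g F₀) = cj g F₀ := cj_self hyg
    have h2 : cj y (cj g F₀) = cj y₀ (cj g F₀) := by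
      rw [cj_cj, cj_cj]
      exact hK
    exact h.mem_of_cj_eq (p.YF hy₀) p.gF (h2.symm.trans h1)
  have hKK : (⨆ K, W K) = KK V F₀ Y g := by
    apply le_antisymm
    · refine iSup_le fun K => iSup_le fun y => ?_
      exact le_KK y.2.1 (hrep K y y.2.1 y.2.2)
    · refine iSup_le fun y => ?_
      exact (leW ⟨cj ((y : G) * g) F₀, y, y.2.1, y.2.2, rfl⟩ y y.2.1 rfl).trans (le_iSup W _)
  have hWa' : ∀ (a : A) (K : P), cj (a : G) (W K) ≤ W (a • K) := by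
    intro a K
    rw [hWdef K, cj_iSup]
    refine iSup_le fun y => ?_
    rw [cj_cj, ← mul_assoc]
    refine leW (a • K) ((a : G) * y) (mul_mem (p.AY a.2) y.2.1) ?_
    have h1 := y.2.2
    rw [hsm, mul_assoc, ← cj_cj, h1]
  have hWa : ∀ (a : A) (K : P), cj (a : G) (W K) = W (a • K) := by
    intro a K
    refine le_antisymm (hWa' a K) ?_
    have h1 := cj_mono (a : G) (hWa' a⁻¹ (a • K))
    rw [inv_smul_smul] at h1
    have h2 : ((a⁻¹ : A) : G) = (a : G)⁻¹ := rfl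
    rwa [h2, cj_cj_inv] at h1
  have hne : Nonempty P := by
    obtain ⟨y, hy, hyn⟩ := SetLike.not_le_iff_exists.1 p.nY
    exact ⟨⟨_, y, hy, hyn, rfl⟩⟩
  have hfin : Finite P := Subtype.finite
  have hWL : ∀ K, W K ≤ Lam V F := fun K => iSup_le fun y => Sit.cjU_le_Lam (p.yF y.2.1)
  have hq : ∀ K, ∀ x ∈ W K, ∀ a ∈ A, ∀ b ∈ A, b * (x * (a * x * a⁻¹)) = x * (a * x * a⁻¹) * b := by
    intro K x hx a ha b hb
    have haF := p.hA.2.1 ha
    let L : Subgroup G :=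
      { carrier := {x | x ∈ Lam V F ∧ b * (x * (a * x * a⁻¹)) = x * (a * x * a⁻¹) * b}
        one_mem' := ⟨one_mem _, by simp⟩
        mul_mem' := by
          rintro x w ⟨hx, hx'⟩ ⟨hw, hw'⟩
          refine ⟨mul_mem hx hw, ?_⟩
          have h1 := h.Lam_comm w hw _ (Sit.conj_Lam haF hx)
          have e : x * w * (a * (x * w) * a⁻¹) = (x * (a * x * a⁻¹)) * (w * (a * w * a⁻¹)) := by
            calc x * w * (a * (x * w) * a⁻¹) = x * (w * (a * x * a⁻¹)) * (a * w * a⁻¹) := by group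
              _ = x * ((a * x * a⁻¹) * w) * (a * w * a⁻¹) := by rw [h1]
              _ = _ := by group
          rw [e]
          calc b * ((x * (a * x * a⁻¹)) * (w * (a * w * a⁻¹))) = (b * (x * (a * x * a⁻¹))) * (w * (a * w * a⁻¹)) := by
                group
            _ = (x * (a * x * a⁻¹)) * (b * (w * (a * w * a⁻¹))) := by rw [hx']; group
            _ = _ := by rw [hw']; group
        inv_mem' := by
          rintro x ⟨hx, hx'⟩
          have : x⁻¹ = x := inv_eq_of_mul_eq_one_left (h.Lam_sq x hx)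
          rw [this]
          exact ⟨hx, hx'⟩ }
    have hL : W K ≤ L := iSup_le fun y w hw =>
      ⟨Sit.cjU_le_Lam (p.yF y.2.1) hw, p.quad' h y.2.1 (hrep K y y.2.1 y.2.2) hw ha hb⟩
    exact (hL hx).2
  have hind : ∀ K, ¬ W K ≤ ⨆ K', ⨆ _ : K' ≠ K, W K' := by
    intro K hle
    obtain ⟨y, hy, hyn, hK⟩ := K.2
    apply hno
    have h1 := cj_mono y⁻¹ ((leW K y hy hK.symm).trans hle)
    rw [← cj_cj, cj_inv_cj] at h1
    refine h1.trans ?_
    rw [cj_iSup]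
    refine iSup_le fun K' => ?_
    rw [cj_iSup]
    refine iSup_le fun hK' => ?_
    rw [hWdef, cj_iSup]
    refine iSup_le fun y' => ?_
    rw [cj_cj, ← mul_assoc]
    refine le_KK (mul_mem (inv_mem hy) y'.2.1) fun h2 => hK' (Subtype.ext ?_)
    rw [← y'.2.2, hK]
    have e : (y' : G) * g = y * ((y⁻¹ * y') * g) := by group
    rw [e, ← cj_cj y, ← cj_cj (y⁻¹ * y') g, cj_self h2, cj_cj]
  have hmv : ∀ K : P, ∃ a : A, a • K ≠ K := by
    intro K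
    obtain ⟨y, hy, hyn, hK⟩ := K.2
    obtain ⟨a, ha, han⟩ := SetLike.not_le_iff_exists.1 (p.not_fix h hy hyn)
    refine ⟨⟨a, ha⟩, fun h1 => han ?_⟩
    have h2 := congrArg Subtype.val h1
    rw [hsm, hK] at h2
    exact h.mem_of_cj_eq (p.hA.2.1 ha) (p.yF hy) h2
  have hl : ∀ K, ∃ L ≤ W K, 4 ≤ Nat.card L ∧ ∀ x ∈ L, (∀ a ∈ A, a * x = x * a) → x = 1 := by
    intro K
    obtain ⟨y, hy, hyn, hK⟩ := K.2
    obtain ⟨i, -, -⟩ := h.two
    refine ⟨cj (y * g) (V i), (cj_mono _ (Sit.V_le_U0 i)).trans (leW K y hy hK.symm), ?_, ?_⟩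
    · rw [card_cj, h.card]
    · intro x hx hax
      by_contra hx1
      exact p.not_fix h hy hyn fun a ha => h.ti_cent (p.yF hy) (p.hA.2.1 ha) hx hx1 (hax a ha)
  have h0 : ∀ a : A, (∀ K : P, a • K = K) → (a : G) ∈ A ⊓ o2 Y := by
    intro a ha
    refine ⟨a.2, p.ker h a.2 fun y hy => ?_⟩
    by_cases hyn : y ∈ cj g F₀
    · rw [← cj_cj, cj_self hyn]
      exact hAg a.2
    · have h1 := congrArg Subtype.val (ha ⟨cj (y * g) F₀, y, hy, hyn, rfl⟩)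
      rw [hsm] at h1
      exact h.mem_of_cj_eq (p.hA.2.1 a.2) (p.yF hy) h1
  have main := count_points (elab_comm p.hA.1) h.Lam_comm h.Lam_sq W hWL hWa hq hind hmv hl h0
  rw [hKK] at main
  have h4 := relIndex_le p.hA (elab_mono h.Lam_elab p.KK_le) (p.KK_le.trans h.Lam_le_F)
  have h5 : (centralizer (KK V F₀ Y g : Set G)).relIndex A ≤ (A ⊓ o2 Y).relIndex A :=
    relIndex_le_of_le_left hc (relIndex_ne _ _)
  have h7 : 0 < (A ⊓ o2 Y).relIndex A := Nat.pos_of_ne_zero (relIndex_ne _ _)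
  omega

/-- **(c)** -/
theorem star [Finite G] (h : Sit F T F₀ V z) : ∃ i j : ι, i ≠ j ∧ ∃ c ∈ T, c * c = 1 ∧ cj c (V i) = V j ∧
    ∃ a ∈ F, a ∉ F₀ ∧ ∀ x ∈ V i, a * (x * (c * x * c⁻¹)) = x * (c * x * c⁻¹) * a := by
  classical
  have hnc := p.not_cent h
  obtain ⟨y, hy, hyn, i, c, hc, x₀, hx₀, hcx⟩ : ∃ y ∈ Y, y ∉ cj g F₀ ∧ ∃ i, ∃ c ∈ A ⊓ o2 Y,
      ∃ x ∈ cj (y * g) (V i), c * x ≠ x * c := by
    by_contra hcon
    push Not at hcon
    apply hnc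
    rw [le_centralizer_iff]
    refine iSup_le fun y => ?_
    rw [cj_iSup]
    exact iSup_le fun i x hx => mem_centralizer_iff.2 fun c hc => hcon y y.2.1 y.2.2 i c hc x hx
  set k := y * g with hk
  have hkF : k ∈ F := p.yF hy
  have hcT : k⁻¹ * c * k ∈ T := by
    rw [← mem_cj]
    exact p.o2_le_cj hy hc.2
  obtain ⟨j, hj, -⟩ := h.perm _ hcT i
  obtain ⟨a, ha, han⟩ := SetLike.not_le_iff_exists.1 (p.not_fix h hy hyn)
  have hconj : ∀ x : G, k⁻¹ * c * k * x * (k⁻¹ * c * k)⁻¹ = k⁻¹ * (c * (k * x * k⁻¹) * c⁻¹) * k := by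
    intro x; group
  refine ⟨i, j, ?_, k⁻¹ * c * k, hcT, ?_, hj, k⁻¹ * a * k, mul_mem (mul_mem (inv_mem hkF) (p.hA.2.1 ha)) hkF,
    fun h1 => han (mem_cj.2 h1), ?_⟩
  · rintro rfl
    -- `c` normalises the factor
    have h1 : c * x₀ * c⁻¹ ∈ cj k (V i) := by
      rw [mem_cj]
      have h2 : k⁻¹ * c * k * (k⁻¹ * x₀ * k) * (k⁻¹ * c * k)⁻¹ ∈ V i := by
        rw [← hj]
        exact conj_mem_cj (mem_cj.1 hx₀)
      have e : k⁻¹ * c * k * (k⁻¹ * x₀ * k) * (k⁻¹ * c * k)⁻¹ = k⁻¹ * (c * x₀ * c⁻¹) * k := by group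
      rwa [e] at h2
    have h2 : x₀ * (c * x₀ * c⁻¹) ∈ cj k (V i) := mul_mem hx₀ h1
    have h3 : x₀ * (c * x₀ * c⁻¹) ≠ 1 := by
      intro h4
      have h5 : x₀⁻¹ = x₀ := inv_eq_of_mul_eq_one_left (h.sq' hx₀)
      have h6 : c * x₀ * c⁻¹ = x₀ := by
        rw [mul_eq_one_iff_inv_eq, h5] at h4
        exact h4.symm
      exact hcx (mul_inv_eq_iff_eq_mul.1 h6)
    refine p.not_fix h hy hyn fun b hb => ?_
    exact h.ti_cent hkF (p.hA.2.1 hb) h2 h3 (p.quad h hy hyn hx₀ hc.1 hb)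
  · have h1 := elab_sq p.hA.1 c hc.1
    calc k⁻¹ * c * k * (k⁻¹ * c * k) = k⁻¹ * (c * c) * k := by group
      _ = 1 := by rw [h1]; group
  · intro x hx
    have h1 := p.quad h hy hyn (conj_mem_cj (g := k) hx) hc.1 ha
    rw [hconj]
    have h2 := congrArg (fun t => k⁻¹ * t * k) h1
    have e1 : k⁻¹ * (a * (k * x * k⁻¹ * (c * (k * x * k⁻¹) * c⁻¹))) * k =
        k⁻¹ * a * k * (x * (k⁻¹ * (c * (k * x * k⁻¹) * c⁻¹) * k)) := by group
    have e2 : k⁻¹ * (k * x * k⁻¹ * (c * (k * x * k⁻¹) * c⁻¹) * a) * k =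
        x * (k⁻¹ * (c * (k * x * k⁻¹) * c⁻¹) * k) * (k⁻¹ * a * k) := by group
    rw [e1, e2] at h2
    exact h2

end Pan

/-- **STEP 1.** -/
theorem Sit.exists_star [Finite G] (h : Sit F T F₀ V z) : ∃ i j : ι, i ≠ j ∧ ∃ c ∈ T, c * c = 1 ∧ cj c (V i) = V j ∧
    ∃ a ∈ F, a ∉ F₀ ∧ ∀ x ∈ V i, a * (x * (c * x * c⁻¹)) = x * (c * x * c⁻¹) * a := by
  obtain ⟨R, A, Y, Rs, g, p⟩ := h.exists_pan
  exact p.star h

end Cfsg.Agent.Omega.OM.Swap
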