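import Cfsg.Agent.Omega.OM.Swap.Pts

/-!
# THEOREM SW, STEP 1: the group `Y`

`Pan`: `A ∈ 𝒜(F)` normalises `R`, `A ≰ R`, `|A ∩ Λ|` maximal; `Y = ⟨O, R, A, A'⟩` minimal; `Rs` a Sylow group of `Y` over
`O R A`, `Rs ≤ T^g`. All proper subgroups of `Y` over `O R A` fix the point of `g`.
-/

set_option autoImplicit false

namespace Cfsg.Agent.Omega.OM.Swap

open Subgroup Cfsg Cfsg.Agent.ZN Cfsg.Agent.ZN.ChoiceBase Cfsg.Agent.ZN.ChoiceSit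
  Cfsg.Agent.MinSimple.VModule Cfsg.Agent.Omega.OmThm
open Cfsg.Agent.MinSimple.MinParabolic (IsMinPar)
open scoped Pointwise commutatorElement

universe u

variable {G : Type u} [Group G] {ι : Type*} {F T F₀ : Subgroup G} {V : ι → Subgroup G} {z : ι → G}

/-- The panel. -/
structure Pan (F T F₀ : Subgroup G) (V : ι → Subgroup G) (R A Y Rs : Subgroup G) (g : G) : Prop where
  mx : Mx F T F₀ R
  hA : A ∈ AA F
  AN : A ≤ normalizer (R : Set G)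
  AR : ¬ A ≤ R
  Amax : ∀ B ∈ AA F, B ≤ normalizer (R : Set G) → ¬ B ≤ R → Nat.card ↥(B ⊓ Lam V F) ≤ Nat.card ↥(A ⊓ Lam V F)
  gF : g ∈ F
  YF : Y ≤ F
  YN : Y ≤ normalizer (R : Set G)
  syl : Syl Rs Y
  ORs : o2 F ≤ Rs
  RRs : R ≤ Rs
  ARs : A ≤ Rs
  RsT : Rs ≤ cj g T
  max : ∀ K : Subgroup G, o2 F ⊔ R ⊔ A ≤ K → K < Y → K ≤ cj g F₀
  nY : ¬ Y ≤ cj g F₀

namespace Sit

variable (h : Sit F T F₀ V z)
include h

theorem exists_pan [Finite G] : ∃ R A Y Rs g, Pan F T F₀ V R A Y Rs g := by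
  classical
  obtain ⟨R, hR⟩ := h.exists_mx
  obtain ⟨A₁, hA₁, A₂, hA₂, hN₁, hR₁, hN₂, hR₂, g₁, hg₁, g₂, hg₂, hT₁, hT₂, hne⟩ := hR.ex
  obtain ⟨A, ⟨hA, hAN, hAR⟩, hmax⟩ := Set.exists_max_image
    {A : Subgroup G | A ∈ AA F ∧ A ≤ normalizer (R : Set G) ∧ ¬ A ≤ R} (fun A => Nat.card ↥(A ⊓ Lam V F))
    (Set.toFinite _) ⟨A₁, hA₁, hN₁, hR₁⟩
  -- the 2-groups `R B`, `O R B`
  have two : ∀ B ∈ AA F, B ≤ normalizer (R : Set G) → IsPGroup 2 (o2 F ⊔ R ⊔ B : Subgroup G) := by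
    intro B hB hBN
    have : Fact (Nat.Prime 2) := ⟨Nat.prime_two⟩
    have h1 : IsPGroup 2 (o2 F ⊔ R : Subgroup G) :=
      IsPGroup.to_sup_of_normal_right' (ChoiceSit.isPGroup_o2 F) hR.R2 hR.On
    refine IsPGroup.to_sup_of_normal_left' h1 (isPGroup_of_elab hB.1) ?_
    intro b hb
    rw [mem_normalizer_iff_cj]
    have e : cj b (o2 F ⊔ R) = cj b (o2 F) ⊔ cj b R := Subgroup.map_sup _ _ _
    rw [e, cj_o2_self (hB.2.1 hb), cj_eq_of_mem_normalizer (hBN hb)]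
  have leF : ∀ B ∈ AA F, o2 F ⊔ R ⊔ B ≤ F := fun B hB => sup_le (sup_le (ChoiceSit.o2_le F) hR.RF) hB.2.1
  obtain ⟨gA, hgA, hTA⟩ := h.exists_cj (two A hA hAN) (leF A hA)
  have hRA : R ⊔ A ≤ cj gA T := (sup_le_sup_right le_sup_right A).trans hTA
  -- a member with another point
  have ex : ∃ B ∈ AA F, B ≤ normalizer (R : Set G) ∧ ¬ B ≤ R ∧ ∃ g ∈ F, R ⊔ B ≤ cj g T ∧ gA⁻¹ * g ∉ F₀ := by
    by_cases h1 : gA⁻¹ * g₁ ∈ F₀
    · refine ⟨A₂, hA₂, hN₂, hR₂, g₂, hg₂, hT₂, fun h2 => hne ?_⟩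
      have h3 := mul_mem (inv_mem h1) h2
      have e : (gA⁻¹ * g₁)⁻¹ * (gA⁻¹ * g₂) = g₁⁻¹ * g₂ := by group
      rwa [e] at h3
    · exact ⟨A₁, hA₁, hN₁, hR₁, g₁, hg₁, hT₁, h1⟩
  obtain ⟨A', ⟨hA', hAN', hAR', g', hg', hT', hne'⟩, hmin⟩ := Set.exists_min_image
    {B : Subgroup G | B ∈ AA F ∧ B ≤ normalizer (R : Set G) ∧ ¬ B ≤ R ∧ ∃ g ∈ F, R ⊔ B ≤ cj g T ∧ gA⁻¹ * g ∉ F₀}
    (fun B => Nat.card ↥(o2 F ⊔ R ⊔ A ⊔ B)) (Set.toFinite _) ex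
  set Y := o2 F ⊔ R ⊔ A ⊔ A' with hY
  have hYF : Y ≤ F := sup_le (leF A hA) hA'.2.1
  have hYN : Y ≤ normalizer (R : Set G) := sup_le (sup_le (sup_le hR.On le_normalizer) hAN) hAN'
  have hQY : o2 F ⊔ R ⊔ A ≤ Y := le_sup_left
  -- `Y` moves the point
  have hYn : ¬ Y ≤ cj gA F₀ := by
    intro h1
    have h2 : R ⊔ A' ≤ cj gA F₀ := (sup_le (le_sup_right.trans (le_sup_left.trans le_sup_left)) le_sup_right).trans h1
    have h3 : IsPGroup 2 (R ⊔ A' : Subgroup G) := (two A' hA' hAN').to_le (sup_le_sup_right le_sup_right A')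
    obtain ⟨k, hk, hk1, hk2⟩ := h.exists_cj_pt h3 hgA h2
    have h4 := hR.one A' hA' hAN' hAR' k hk g' hg' hk2 hT'
    have h5 := mul_mem hk1 h4
    have e : gA⁻¹ * k * (k⁻¹ * g') = gA⁻¹ * g' := by group
    rw [e] at h5
    exact hne' h5
  -- the maximal subgroups
  have hKmax : ∀ K : Subgroup G, o2 F ⊔ R ⊔ A ≤ K → K < Y → K ≤ cj gA F₀ := by
    intro K hQK hKY
    by_contra hcon
    obtain ⟨k, hkK, hk⟩ := SetLike.not_le_iff_exists.1 hcon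
    have hkY : k ∈ Y := hKY.le hkK
    have hkF : k ∈ F := hYF hkY
    have hkR : cj k R = R := cj_eq_of_mem_normalizer (hYN hkY)
    have h1 : cj k A ∈ AA F := AA_cj hkF hA
    have h2 : cj k A ≤ K := by
      have := cj_mono k (le_sup_right.trans hQK : A ≤ K)
      rwa [cj_self hkK] at this
    have h3 : ¬ cj k A ≤ R := by
      intro h4
      apply hAR
      rw [← hkR] at h4
      have := cj_mono k⁻¹ h4
      rwa [cj_inv_cj, cj_inv_cj] at this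
    have h4 : R ⊔ cj k A ≤ cj (k * gA) T := by
      rw [← hkR, ← cj_cj]
      refine sup_le ?_ ?_
      · rw [hkR, ← hkR]
        exact cj_mono k (le_sup_left.trans hRA)
      · exact cj_mono k (le_sup_right.trans hRA)
    have h5 : gA⁻¹ * (k * gA) ∉ F₀ := by
      intro h6
      apply hk
      rw [mem_cj]
      rwa [← mul_assoc] at h6
    have h6 := hmin (cj k A) ⟨h1, h2.trans (hKY.le.trans hYN), h3, k * gA, mul_mem hkF hgA, h4, h5⟩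
    have h7 : o2 F ⊔ R ⊔ A ⊔ cj k A ≤ K := sup_le hQK h2
    have h8 : Nat.card Y ≤ Nat.card K := h6.trans (Subgroup.card_le_of_le h7)
    exact hKY.ne (eq_of_le_of_card_ge hKY.le h8)
  -- the Sylow group
  obtain ⟨Rs, hRs, hQRs⟩ := exists_syl (two A hA hAN) hQY
  obtain ⟨g, hg, hRsg⟩ := h.exists_cj hRs.2.1 (hRs.1.trans hYF)
  have hpt : gA⁻¹ * g ∈ F₀ := hR.one A hA hAN hAR gA hgA g hg hRA
    (((sup_le_sup_right le_sup_right A).trans hQRs).trans hRsg)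
  have hFe : cj g F₀ = cj gA F₀ := by
    have : g = gA * (gA⁻¹ * g) := by group
    rw [this, ← cj_cj, cj_self hpt]
  refine ⟨R, A, Y, Rs, g, hR, hA, hAN, hAR, fun B hB h1 h2 => hmax B ⟨hB, h1, h2⟩, hg, hYF, hYN, hRs,
    (le_sup_left.trans le_sup_left).trans hQRs, (le_sup_right.trans le_sup_left).trans hQRs,
    le_sup_right.trans hQRs, hRsg, ?_, ?_⟩
  · rw [hFe]
    exact hKmax
  · rw [hFe]
    exact hYn

end Sit

namespace Pan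

variable {R A Y Rs : Subgroup G} {g : G} (p : Pan F T F₀ V R A Y Rs g)
include p

theorem RsY : Rs ≤ Y := p.syl.1

theorem Rs2 : IsPGroup 2 Rs := p.syl.2.1

theorem AY : A ≤ Y := p.ARs.trans p.RsY

theorem RY : R ≤ Y := p.RRs.trans p.RsY

theorem OY : o2 F ≤ Y := p.ORs.trans p.RsY

theorem R_le_o2 [Finite G] : R ≤ o2 Y := ChoiceSit.le_o2 p.mx.R2 p.RY p.YN

theorem O_le_o2 [Finite G] : o2 F ≤ o2 Y :=
  ChoiceSit.le_o2 (ChoiceSit.isPGroup_o2 F) p.OY (p.YF.trans (ChoiceSit.le_normalizer_o2 F))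

theorem o2_le_Rs [Finite G] : o2 Y ≤ Rs := o2_le_syl p.syl

/-- `O₂(Y) ≤ T^{yg}` for all `y ∈ Y`. -/
theorem o2_le_cj [Finite G] {y : G} (hy : y ∈ Y) : o2 Y ≤ cj (y * g) T := by
  have h1 := cj_mono y (p.o2_le_Rs.trans p.RsT)
  rwa [cj_o2_self hy, cj_cj] at h1

theorem yF {y : G} (hy : y ∈ Y) : y * g ∈ F := mul_mem (p.YF hy) p.gF

theorem RsF₀ (h : Sit F T F₀ V z) : Rs ≤ cj g F₀ := p.RsT.trans h.cj_T_le

theorem not_normal [Finite G] : ¬ Y ≤ normalizer (Rs : Set G) := by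
  intro h1
  have h2 : Y ⊓ normalizer (Rs : Set G) = Y := inf_eq_left.2 h1
  -- `Rs = O₂(Y)` lies in all `T^{yg}`, and `R A ≤ Rs` has only one point
  have h3 : Rs ≤ o2 Y := ChoiceSit.le_o2 p.Rs2 p.RsY h1
  obtain ⟨y, hy, hyn⟩ := SetLike.not_le_iff_exists.1 p.nY
  have h4 : R ⊔ A ≤ cj (y * g) T := (sup_le p.RRs p.ARs).trans (h3.trans (p.o2_le_cj hy))
  have h5 := p.mx.one A p.hA p.AN p.AR g p.gF _ (p.yF hy) ((sup_le p.RRs p.ARs).trans p.RsT) h4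
  apply hyn
  rw [mem_cj]
  rwa [← mul_assoc] at h5

theorem max' {K : Subgroup G} (hK : Rs ≤ K) (hKY : K < Y) : K ≤ cj g F₀ :=
  p.max K (sup_le (sup_le (p.ORs.trans hK) (p.RRs.trans hK)) (p.ARs.trans hK)) hKY

theorem lt : Y ⊓ cj g F₀ < Y :=
  lt_of_le_of_ne inf_le_left fun h1 => p.nY (inf_eq_left.1 h1)

theorem par [Finite G] : IsMinPar Rs Y :=
  ⟨p.RsY, p.not_normal, Y ⊓ cj g F₀, p.lt, fun _ hK hKY => le_inf hKY.le (p.max' hK hKY)⟩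

/-- `A` fixes no further point. -/
theorem not_fix [Finite G] (h : Sit F T F₀ V z) {y : G} (hy : y ∈ Y) (hyn : y ∉ cj g F₀) :
    ¬ A ≤ cj (y * g) F₀ := by
  intro h1
  have h2 : R ⊔ A ≤ cj (y * g) F₀ := sup_le ((p.R_le_o2.trans (p.o2_le_cj hy)).trans h.cj_T_le) h1
  have h3 : IsPGroup 2 (R ⊔ A : Subgroup G) := p.Rs2.to_le (sup_le p.RRs p.ARs)
  obtain ⟨k, hk, hk1, hk2⟩ := h.exists_cj_pt h3 (p.yF hy) h2
  have h4 := p.mx.one A p.hA p.AN p.AR g p.gF k hk ((sup_le p.RRs p.ARs).trans p.RsT) hk2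
  apply hyn
  have h5 := mul_mem h4 (inv_mem hk1)
  have e : g⁻¹ * k * ((y * g)⁻¹ * k)⁻¹ = g⁻¹ * y * g := by group
  rw [e] at h5
  rwa [mem_cj]

/-- The kernel of `A` on the points. -/
theorem ker [Finite G] (h : Sit F T F₀ V z) {a : G} (ha : a ∈ A) (hfix : ∀ y ∈ Y, a ∈ cj (y * g) F₀) : a ∈ o2 Y := by
  have : Fact (Nat.Prime 2) := ⟨Nat.prime_two⟩
  set N : Subgroup G := Y ⊓ ⨅ y : Y, cj ((y : G) * g) F₀ with hN
  have hmemN : ∀ x, x ∈ N ↔ x ∈ Y ∧ ∀ y ∈ Y, x ∈ cj (y * g) F₀ := by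
    intro x
    rw [hN, mem_inf, mem_iInf]
    exact ⟨fun h => ⟨h.1, fun y hy => h.2 ⟨y, hy⟩⟩, fun h => ⟨h.1, fun y => h.2 y y.2⟩⟩
  have hYn : Y ≤ normalizer (N : Set G) := by
    intro x hx
    refine mem_normalizer_of_cj_le fun w hw => ?_
    rw [mem_cj, hmemN] at hw
    rw [hmemN]
    constructor
    · have := mul_mem (mul_mem hx hw.1) (inv_mem hx)
      have e : x * (x⁻¹ * w * x) * x⁻¹ = w := by group
      rwa [e] at this
    · intro y hy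
      have h1 := hw.2 (x⁻¹ * y) (mul_mem (inv_mem hx) hy)
      rw [mem_cj] at h1 ⊢
      have e : (x⁻¹ * y * g)⁻¹ * (x⁻¹ * w * x) * (x⁻¹ * y * g) = (y * g)⁻¹ * w * (y * g) := by group
      rwa [e] at h1
  rcases p.par.sup_eq_or_inf_le p.Rs2 (syl_not_dvd p.syl) inf_le_left hYn with h1 | h1
  · exfalso
    apply p.nY
    rw [← h1]
    refine sup_le (fun x hx => ?_) (p.RsF₀ h)
    have := ((hmemN x).1 hx).2 1 (one_mem _)
    rwa [one_mul] at this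
  · exact h1 ⟨p.ARs ha, (hmemN a).2 ⟨p.AY ha, hfix⟩⟩

theorem A_not_le [Finite G] (h : Sit F T F₀ V z) : ¬ A ≤ o2 Y := by
  intro h1
  obtain ⟨y, hy, hyn⟩ := SetLike.not_le_iff_exists.1 p.nY
  exact p.not_fix h hy hyn (h1.trans ((p.o2_le_cj hy).trans h.cj_T_le))

end Pan

end Cfsg.Agent.Omega.OM.Swap
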