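import Cfsg.Agent.Omega.OM.Swap.Base

/-!
# THEOREM SW, STEP 1: the choice of `R`

`JF F X` = the group generated by the members of `𝒜(F)` in `X`. `Mx F T F₀ R`: `R = JF(T₁ ∩ T₂)` of maximal order for
two Sylow groups with different points.
-/

set_option autoImplicit false

namespace Cfsg.Agent.Omega.OM.Swap

open Subgroup Cfsg Cfsg.Agent.ZN Cfsg.Agent.ZN.ChoiceBase Cfsg.Agent.ZN.ChoiceSit
  Cfsg.Agent.MinSimple.VModule Cfsg.Agent.Omega.OmThm
open Cfsg.Agent.MinSimple.MinParabolic (IsMinPar)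
open scoped Pointwise commutatorElement

universe u

variable {G : Type u} [Group G] {ι : Type*} {F T F₀ : Subgroup G} {V : ι → Subgroup G} {z : ι → G}

/-- The group generated by the members of `𝒜(F)` in `X`. -/
def JF (F X : Subgroup G) : Subgroup G := sSup {A | A ∈ AA F ∧ A ≤ X}

theorem JF_le (X : Subgroup G) : JF F X ≤ X := sSup_le fun _ hA => hA.2

theorem le_JF {X A : Subgroup G} (hA : A ∈ AA F) (h : A ≤ X) : A ≤ JF F X := le_sSup ⟨hA, h⟩

theorem JF_mono {X Y : Subgroup G} (h : X ≤ Y) : JF F X ≤ JF F Y :=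
  sSup_le fun _ hA => le_JF hA.1 (hA.2.trans h)

theorem JF_le_F (X : Subgroup G) : JF F X ≤ F := sSup_le fun _ hA => hA.1.2.1

theorem cj_JF {g : G} (hg : g ∈ F) (X : Subgroup G) : cj g (JF F X) = JF F (cj g X) := by
  have key : ∀ g ∈ F, ∀ X : Subgroup G, cj g (JF F X) ≤ JF F (cj g X) := by
    intro g hg X
    rw [cj_le_iff]
    refine sSup_le fun A hA => ?_
    rw [← cj_cj_inv g⁻¹ A, inv_inv]
    exact cj_mono g⁻¹ (le_JF (AA_cj hg hA.1) (cj_mono g hA.2))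
  refine le_antisymm (key g hg X) ?_
  have h1 := cj_mono g (key g⁻¹ (inv_mem hg) (cj g X))
  rwa [cj_cj_inv, cj_inv_cj] at h1

theorem JF_JF (X : Subgroup G) : JF F (JF F X) = JF F X :=
  le_antisymm (JF_le _) (sSup_le fun _ hA => le_JF hA.1 (le_JF hA.1 hA.2))

/-- `R` is a maximal intersection. -/
structure Mx (F T F₀ R : Subgroup G) : Prop where
  RF : R ≤ F
  R2 : IsPGroup 2 R
  On : o2 F ≤ normalizer (R : Set G)
  gen : JF F R = R
  one : ∀ A ∈ AA F, A ≤ normalizer (R : Set G) → ¬ A ≤ R → ∀ g ∈ F, ∀ g' ∈ F, R ⊔ A ≤ cj g T → R ⊔ A ≤ cj g' T →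
    g⁻¹ * g' ∈ F₀
  ex : ∃ A ∈ AA F, ∃ A' ∈ AA F, A ≤ normalizer (R : Set G) ∧ ¬ A ≤ R ∧ A' ≤ normalizer (R : Set G) ∧ ¬ A' ≤ R ∧
    ∃ g ∈ F, ∃ g' ∈ F, R ⊔ A ≤ cj g T ∧ R ⊔ A' ≤ cj g' T ∧ g⁻¹ * g' ∉ F₀

namespace Sit

variable (h : Sit F T F₀ V z)
include h

theorem grow [Finite G] {R : Subgroup G} (hR : JF F R = R) {g : G} (hg : g ∈ F) (hRg : R ≤ cj g T)
    (hno : ∀ A ∈ AA F, A ≤ cj g T → A ≤ normalizer (R : Set G) → A ≤ R) : JF F (cj g T) = R := by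
  set P := cj g T with hP
  have hPF : P ≤ F := by
    have := cj_mono g h.TF
    rwa [cj_self hg] at this
  set K := P ⊓ normalizer (R : Set G) with hK
  have hRK : R ≤ K := le_inf hRg le_normalizer
  have hJK : JF F K = R :=
    le_antisymm (sSup_le fun A hA => hno A hA.1 (hA.2.trans inf_le_left) (hA.2.trans inf_le_right))
      (hR.symm.le.trans (JF_mono hRK))
  have h1 : K = P := by
    apply ZN.ChoiceNse.eq_of_normalizer_inf_le (isPGroup_cj g h.T2) inf_le_left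
    rintro x ⟨hx1, hx2⟩
    refine mem_inf.2 ⟨hx2, ?_⟩
    rw [mem_normalizer_iff_cj, ← hJK, cj_JF (hPF hx2), cj_eq_of_mem_normalizer hx1]
  rw [← h1, hJK]

theorem exists_mx [Finite G] : ∃ R, Mx F T F₀ R := by
  classical
  obtain ⟨g₀, hg₀, hg₀'⟩ := SetLike.exists_of_lt h.F₀F
  obtain ⟨⟨g₁, g₂⟩, ⟨hg₁, hg₂, hne⟩, hmax⟩ := Set.exists_max_image
    {p : G × G | p.1 ∈ F ∧ p.2 ∈ F ∧ p.1⁻¹ * p.2 ∉ F₀} (fun p => Nat.card (JF F (cj p.1 T ⊓ cj p.2 T)))
    (Set.toFinite _) ⟨(1, g₀), one_mem _, hg₀, by simpa using hg₀'⟩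
  simp only at hg₁ hg₂ hne hmax
  set R := JF F (cj g₁ T ⊓ cj g₂ T) with hRdef
  have hR1 : R ≤ cj g₁ T := (JF_le _).trans inf_le_left
  have hR2 : R ≤ cj g₂ T := (JF_le _).trans inf_le_right
  have hgen : JF F R = R := JF_JF _
  have hRF : R ≤ F := JF_le_F _
  have hO : o2 F ≤ normalizer (R : Set G) := by
    intro o ho
    have hoF := ChoiceSit.o2_le F ho
    rw [mem_normalizer_iff_cj, hRdef, cj_JF hoF, cj_inf, cj_self (h.O_le_cj hg₁ ho), cj_self (h.O_le_cj hg₂ ho)]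
  -- the members of `𝒜(F)` outside `R` for one of the two Sylow groups
  have hex : ∀ g g' : G, g ∈ F → g' ∈ F → R ≤ cj g T → R ≤ cj g' T → g⁻¹ * g' ∉ F₀ →
      ∃ A ∈ AA F, A ≤ cj g T ∧ A ≤ normalizer (R : Set G) ∧ ¬ A ≤ R := by
    intro g g' hg hg' hRg hRg' hgg'
    by_contra hcon
    push Not at hcon
    have h1 := h.grow hgen hg hRg fun A hA hA1 hA2 => hcon A hA hA1 hA2
    -- `R = JF(T^g')`
    have h2 : JF F (cj g' T) = R := by
      have h3 : R ≤ JF F (cj g' T) := hgen.symm.le.trans (JF_mono hRg')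
      refine (eq_of_le_of_card_ge h3 ?_).symm
      have h4 : cj (g' * g⁻¹) (JF F (cj g T)) = JF F (cj g' T) := by
        rw [cj_JF (mul_mem hg' (inv_mem hg)), cj_cj, inv_mul_cancel_right]
      rw [← h4, card_cj, h1]
    have hn : ∀ g ∈ F, JF F (cj g T) = R → cj g T ≤ normalizer (R : Set G) := by
      intro g hg he x hx
      have hxF : x ∈ F := by
        have := cj_mono g h.TF hx
        rwa [cj_self hg] at this
      rw [mem_normalizer_iff_cj, ← he, cj_JF hxF, cj_self hx]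
    have hFn : ∀ g ∈ F, cj g T ≤ F := by
      intro g hg
      have := cj_mono g h.TF
      rwa [cj_self hg] at this
    have n1 := hn g hg h1
    have n2 := hn g' hg' h2
    by_cases hF : F ≤ normalizer (R : Set G)
    · have h3 : R ≤ o2 F := ChoiceSit.le_o2 ((isPGroup_cj g h.T2).to_le hRg) hRF hF
      obtain ⟨A, hA, hAT, hAO⟩ := h.nJ'
      apply hAO
      have h4 : cj g A ≤ o2 F := (le_JF (AA_cj hg hA) (cj_mono g hAT)).trans (h1.le.trans h3)
      rw [cj_le_iff, cj_o2_self (inv_mem hg)] at h4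
      exact h4
    · have hlt : F ⊓ normalizer (R : Set G) < F := lt_of_le_of_ne inf_le_left fun h4 => hF (inf_eq_left.1 h4)
      have h3 := h.le_cj_of hg (le_inf (hFn g hg) n1) hlt
      exact hgg' (h.pt_of_le hg hg' ((le_inf (hFn g' hg') n2).trans h3))
  refine ⟨R, hRF, (isPGroup_cj g₁ h.T2).to_le hR1, hO, hgen, ?_, ?_⟩
  · intro A hA hAN hAR g hg g' hg' h1 h2
    by_contra hcon
    have h3 := hmax (g, g') ⟨hg, hg', hcon⟩
    simp only at h3
    have h4 : R ≤ JF F (cj g T ⊓ cj g' T) := hgen.symm.le.trans (JF_mono (le_inf (le_sup_left.trans h1) (le_sup_left.trans h2)))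
    have h5 : R = JF F (cj g T ⊓ cj g' T) := eq_of_le_of_card_ge h4 h3
    apply hAR
    rw [h5]
    exact le_JF hA (le_inf (le_sup_right.trans h1) (le_sup_right.trans h2))
  · obtain ⟨A, hA, hA1, hA2, hA3⟩ := hex g₁ g₂ hg₁ hg₂ hR1 hR2 hne
    obtain ⟨A', hA', hA1', hA2', hA3'⟩ := hex g₂ g₁ hg₂ hg₁ hR2 hR1 fun h1 => hne (by
      have := inv_mem h1
      rwa [mul_inv_rev, inv_inv] at this)
    exact ⟨A, hA, A', hA', hA2, hA3, hA2', hA3', g₁, hg₁, g₂, hg₂, sup_le hR1 hA1, sup_le hR2 hA1', hne⟩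

end Sit

end Cfsg.Agent.Omega.OM.Swap
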