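import Cfsg.Agent.Omega.OM.Swap.Sit
import Cfsg.Agent.S0598
import Cfsg.Agent.S0607
import Cfsg.Agent.OddOrderLocal.IdealPrime
import Cfsg.Agent.Lib.CoprimeCommutator
import Cfsg.Agent.Omega.OmThm.Two

/-!
# THEOREM SW: the replacement facts

`A ∈ 𝒜(F)` (elementary abelian of maximal order in `F`), `Λ ≤ F` elementary abelian, normalised by `F`.

* `inf_cent_eq` : `C_Λ(A) = A ∩ Λ`;
* `relIndex_le` : `|X : C_X(A)| ≤ |A : C_A(X)|` for `X ≤ F` elementary abelian;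
* `rep` : for `U ≤ Λ` and `B = C_A([U, A])`: `C_Λ(B) = [U, A] C_Λ(A)` and `B C_Λ(B) ∈ 𝒜(F)`;
* `rep_lt` : if `[U, A, A] ≠ 1`, then `|B C_Λ(B) ∩ Λ| > |A ∩ Λ|`;
* `rep_cent` : if `B` centralises `U`, then `A` centralises `U`.
-/

set_option autoImplicit false

namespace Cfsg.Agent.Omega.OM.Swap

open Subgroup Cfsg Cfsg.Agent.ZN Cfsg.Agent.ZN.ChoiceBase Cfsg.Agent.ZN.ChoiceSit
open scoped Pointwise commutatorElement

universe u

variable {G : Type u} [Group G] {F A Λ : Subgroup G}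

theorem elab_of {X : Subgroup G} (hc : ∀ x ∈ X, ∀ y ∈ X, x * y = y * x) (h2 : ∀ x ∈ X, x * x = 1) :
    IsElementaryAbelian 2 X :=
  ⟨⟨⟨fun a b => Subtype.ext (hc a a.2 b b.2)⟩⟩, fun x hx => by rw [pow_two]; exact h2 x hx⟩

theorem elab_comm {X : Subgroup G} (h : IsElementaryAbelian 2 X) : ∀ x ∈ X, ∀ y ∈ X, x * y = y * x :=
  fun x hx y hy => congrArg Subtype.val (h.1.1.comm ⟨x, hx⟩ ⟨y, hy⟩)

theorem elab_sq {X : Subgroup G} (h : IsElementaryAbelian 2 X) : ∀ x ∈ X, x * x = 1 :=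
  fun x hx => by rw [← pow_two]; exact h.2 x hx

theorem elab_sup {X Y : Subgroup G} (hX : IsElementaryAbelian 2 X) (hY : IsElementaryAbelian 2 Y)
    (h : ∀ x ∈ X, ∀ y ∈ Y, x * y = y * x) : IsElementaryAbelian 2 (X ⊔ Y : Subgroup G) :=
  Cfsg.Agent.OddOrderLocal.IdealPrime.isElementaryAbelian_sup hX hY fun x hx =>
    mem_centralizer_iff.2 fun y hy => (h x hx y hy).symm

theorem elab_mono {X Y : Subgroup G} (hX : IsElementaryAbelian 2 X) (h : Y ≤ X) : IsElementaryAbelian 2 Y :=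
  elab_of (fun x hx y hy => elab_comm hX x (h hx) y (h hy)) fun x hx => elab_sq hX x (h hx)

/-- `|X Y| |X ∩ Y| = |X| |Y|` for commuting subgroups. -/
theorem card_mul {X Y : Subgroup G} (h : ∀ x ∈ X, ∀ y ∈ Y, x * y = y * x) :
    Nat.card ↥(X ⊔ Y) * Nat.card ↥(X ⊓ Y) = Nat.card X * Nat.card Y :=
  Cfsg.Agent.S0607.card_sup_mul_card_inf fun y hy => mem_centralizer_iff.2 fun x hx => h x hx y hy

theorem card_mul_relIndex {H K : Subgroup G} (h : H ≤ K) : Nat.card H * H.relIndex K = Nat.card K := by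
  have h1 := relIndex_mul_relIndex ⊥ H K bot_le h
  rwa [relIndex_bot_left, relIndex_bot_left] at h1

theorem isPGroup_of_elab {X : Subgroup G} (h : IsElementaryAbelian 2 X) : IsPGroup 2 X := fun g =>
  ⟨1, Subtype.ext (by simpa using h.2 g g.2)⟩

section Rep

variable [Finite G]

theorem AA_sup_le (hA : A ∈ AA F) {X : Subgroup G} (hX : IsElementaryAbelian 2 X) (hXF : X ≤ F)
    (h : ∀ x ∈ X, ∀ a ∈ A, x * a = a * x) : X ≤ A := by
  have h1 := elab_sup hX hA.1 h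
  have h2 := hA.2.2 _ h1 (sup_le hXF hA.2.1)
  have h3 : A = X ⊔ A := eq_of_le_of_card_ge le_sup_right h2
  rw [h3]
  exact le_sup_left

theorem inf_cent_le (hA : A ∈ AA F) (hΛ : IsElementaryAbelian 2 Λ) (hΛF : Λ ≤ F) :
    Λ ⊓ centralizer (A : Set G) ≤ A :=
  AA_sup_le hA (elab_mono hΛ inf_le_left) (inf_le_left.trans hΛF) fun x hx a ha =>
    (mem_centralizer_iff.1 hx.2 a ha).symm

theorem inf_cent_eq (hA : A ∈ AA F) (hΛ : IsElementaryAbelian 2 Λ) (hΛF : Λ ≤ F) :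
    Λ ⊓ centralizer (A : Set G) = A ⊓ Λ := by
  refine le_antisymm (le_inf (inf_cent_le hA hΛ hΛF) inf_le_left) ?_
  rintro x ⟨h1, h2⟩
  exact ⟨h2, mem_centralizer_iff.2 fun a ha => elab_comm hA.1 a ha x h1⟩

/-- The order count. -/
theorem relIndex_le (hA : A ∈ AA F) {X : Subgroup G} (hX : IsElementaryAbelian 2 X) (hXF : X ≤ F) :
    (centralizer (A : Set G)).relIndex X ≤ (centralizer (X : Set G)).relIndex A := by
  set C : Subgroup G := A ⊓ centralizer (X : Set G) with hC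
  have hCX : ∀ x ∈ X, ∀ c ∈ C, x * c = c * x := fun x hx c hc => mem_centralizer_iff.1 hc.2 x hx
  have h1 : IsElementaryAbelian 2 (X ⊔ C : Subgroup G) := elab_sup hX (elab_mono hA.1 inf_le_left) hCX
  have h2 := hA.2.2 _ h1 (sup_le hXF (inf_le_left.trans hA.2.1))
  have h3 := card_mul hCX
  have h4 : X ⊓ C ≤ X ⊓ centralizer (A : Set G) := by
    rintro x ⟨hx, hx'⟩
    exact ⟨hx, mem_centralizer_iff.2 fun a ha => elab_comm hA.1 a ha x hx'.1⟩
  have h5 : Nat.card ↥(X ⊓ C) ≤ Nat.card ↥(X ⊓ centralizer (A : Set G)) := Subgroup.card_le_of_le h4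
  have h6 : Nat.card ↥(X ⊓ centralizer (A : Set G)) * (centralizer (A : Set G)).relIndex X = Nat.card X := by
    rw [inf_comm, ← inf_relIndex_right]
    exact card_mul_relIndex inf_le_right
  have h7 : Nat.card C * (centralizer (X : Set G)).relIndex A = Nat.card A := by
    rw [hC, inf_comm, ← inf_relIndex_right]
    exact card_mul_relIndex inf_le_right
  have p1 : 0 < Nat.card ↥(X ⊓ centralizer (A : Set G)) := Nat.card_pos
  have p2 : 0 < Nat.card C := Nat.card_pos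
  -- `|X| |C| ≤ |A| |X ∩ C|`
  have h8 : Nat.card X * Nat.card C ≤ Nat.card A * Nat.card ↥(X ⊓ centralizer (A : Set G)) := by
    rw [← h3]
    exact Nat.mul_le_mul h2 h5
  rw [← h6, ← h7] at h8
  refine Nat.le_of_mul_le_mul_left (c := Nat.card ↥(X ⊓ centralizer (A : Set G)) * Nat.card C) ?_
    (Nat.mul_pos p1 p2)
  calc _ = Nat.card ↥(X ⊓ centralizer (A : Set G)) * (centralizer (A : Set G)).relIndex X * Nat.card C := by ring
    _ ≤ _ := h8
    _ = _ := by ring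

/-- **Replacement.** -/
theorem rep (hA : A ∈ AA F) (hΛ : IsElementaryAbelian 2 Λ) (hΛF : Λ ≤ F) (hn : F ≤ normalizer (Λ : Set G))
    {U : Subgroup G} (hU : U ≤ Λ) :
    Λ ⊓ centralizer ((A ⊓ centralizer ((⁅U, A⁆ : Subgroup G) : Set G) : Subgroup G) : Set G) =
        ⁅U, A⁆ ⊔ (Λ ⊓ centralizer (A : Set G)) ∧
      (A ⊓ centralizer ((⁅U, A⁆ : Subgroup G) : Set G)) ⊔ (Λ ⊓ centralizer
        ((A ⊓ centralizer ((⁅U, A⁆ : Subgroup G) : Set G) : Subgroup G) : Set G)) ∈ AA F := by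
  have : Fact (Nat.Prime 2) := ⟨Nat.prime_two⟩
  have hab : ⁅A, A⁆ ≤ centralizer (Λ : Set G) := by
    rw [commutator_le]
    intro x hx y hy
    have : ⁅x, y⁆ = 1 := commutatorElement_eq_one_iff_mul_comm.2 (elab_comm hA.1 x hx y hy)
    rw [this]
    exact one_mem _
  -- `|B| |C_Λ(B)| ≤ |A| |C_Λ(A)|`, and `B C_Λ(B) ∈ AA F` in case of equality
  have key : ∀ B : Subgroup G, B ≤ A →
      Nat.card B * Nat.card ↥(Λ ⊓ centralizer (B : Set G)) ≤
        Nat.card ↥(B ⊔ (Λ ⊓ centralizer (B : Set G))) * Nat.card ↥(Λ ⊓ centralizer (A : Set G)) ∧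
      IsElementaryAbelian 2 (B ⊔ (Λ ⊓ centralizer (B : Set G)) : Subgroup G) := by
    intro B hB
    have hBC : ∀ x ∈ B, ∀ y ∈ Λ ⊓ centralizer (B : Set G), x * y = y * x :=
      fun x hx y hy => mem_centralizer_iff.1 hy.2 x hx
    have h1 := card_mul hBC
    have h2 : B ⊓ (Λ ⊓ centralizer (B : Set G)) ≤ Λ ⊓ centralizer (A : Set G) := by
      rintro x ⟨hx, hx'⟩
      exact ⟨hx'.1, mem_centralizer_iff.2 fun a ha => elab_comm hA.1 a ha x (hB hx)⟩
    refine ⟨?_, elab_sup (elab_mono hA.1 hB) (elab_mono hΛ inf_le_left) hBC⟩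
    rw [← h1]
    exact Nat.mul_le_mul le_rfl (Subgroup.card_le_of_le h2)
  have hp : 0 < Nat.card ↥(Λ ⊓ centralizer (A : Set G)) := Nat.card_pos
  obtain ⟨B, hBA, h | ⟨hB, h1, h2⟩⟩ := Cfsg.Agent.S0598.result (p := 2) Λ A hΛ (hA.2.1.trans hn) hab U hU
  · exfalso
    obtain ⟨k1, k2⟩ := key B hBA
    have k3 := hA.2.2 _ k2 (sup_le (hBA.trans hA.2.1) (inf_le_left.trans hΛF))
    have k4 := k1.trans (Nat.mul_le_mul_right _ k3)
    omega
  · subst hB
    refine ⟨h1, ?_⟩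
    obtain ⟨k1, k2⟩ := key _ hBA
    rw [← h2] at k1
    have k3 := Nat.le_of_mul_le_mul_right k1 hp
    exact ⟨k2, sup_le (hBA.trans hA.2.1) (inf_le_left.trans hΛF), fun C hC hCF => (hA.2.2 C hC hCF).trans k3⟩

theorem rep_lt (hA : A ∈ AA F) (hΛ : IsElementaryAbelian 2 Λ) (hΛF : Λ ≤ F) (hn : F ≤ normalizer (Λ : Set G))
    {U : Subgroup G} (hU : U ≤ Λ) (hne : ¬ ⁅U, A⁆ ≤ centralizer (A : Set G)) :
    Nat.card ↥(A ⊓ Λ) < Nat.card ↥(((A ⊓ centralizer ((⁅U, A⁆ : Subgroup G) : Set G)) ⊔ (Λ ⊓ centralizer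
        ((A ⊓ centralizer ((⁅U, A⁆ : Subgroup G) : Set G) : Subgroup G) : Set G)) : Subgroup G) ⊓ Λ) := by
  obtain ⟨h1, -⟩ := rep hA hΛ hΛF hn hU
  rw [← inf_cent_eq hA hΛ hΛF]
  set B : Subgroup G := A ⊓ centralizer ((⁅U, A⁆ : Subgroup G) : Set G) with hB
  have h2 : Λ ⊓ centralizer (A : Set G) ≤ (B ⊔ (Λ ⊓ centralizer (B : Set G))) ⊓ Λ := by
    refine le_inf ?_ inf_le_left
    rw [h1]
    exact le_sup_right.trans le_sup_right
  have h3 : ⁅U, A⁆ ≤ (B ⊔ (Λ ⊓ centralizer (B : Set G))) ⊓ Λ := by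
    refine le_inf ?_ ?_
    · rw [h1]
      exact le_sup_left.trans le_sup_right
    · have : ⁅U, A⁆ ≤ Λ ⊓ centralizer (B : Set G) := by rw [h1]; exact le_sup_left
      exact this.trans inf_le_left
  rcases (Subgroup.card_le_of_le h2).lt_or_eq with h4 | h4
  · exact h4
  · exfalso
    have h5 := eq_of_le_of_card_ge h2 h4.ge
    rw [← h5] at h3
    exact hne (h3.trans inf_le_right)

theorem rep_cent (hA : A ∈ AA F) (hΛ : IsElementaryAbelian 2 Λ) (hΛF : Λ ≤ F) (hn : F ≤ normalizer (Λ : Set G))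
    {U : Subgroup G} (hU : U ≤ Λ)
    (hc : ∀ b ∈ A ⊓ centralizer ((⁅U, A⁆ : Subgroup G) : Set G), ∀ u ∈ U, b * u = u * b) :
    U ≤ centralizer (A : Set G) := by
  obtain ⟨h1, -⟩ := rep hA hΛ hΛF hn hU
  set B : Subgroup G := A ⊓ centralizer ((⁅U, A⁆ : Subgroup G) : Set G) with hB
  set C : Subgroup G := Λ ⊓ centralizer (A : Set G) with hC
  set W : Subgroup G := ⁅U, A⁆ ⊔ C with hW
  have hUW : U ≤ W := by
    rw [← h1]
    exact fun u hu => ⟨hU hu, mem_centralizer_iff.2 fun b hb => hc b hb u hu⟩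
  have hWΛ : W ≤ Λ := by rw [← h1]; exact inf_le_left
  have hAC : A ≤ normalizer (C : Set G) := by
    intro a ha
    rw [mem_normalizer_iff]
    have key : ∀ a ∈ A, ∀ x ∈ C, a * x * a⁻¹ ∈ C := by
      intro a ha x hx
      have : a * x * a⁻¹ = x := by
        rw [mem_centralizer_iff.1 hx.2 a ha, mul_inv_cancel_right]
      rw [this]
      exact hx
    intro x
    refine ⟨key a ha x, fun h => ?_⟩
    have h3 := key a⁻¹ (inv_mem ha) _ h
    have h4 : a⁻¹ * (a * x * a⁻¹) * a⁻¹⁻¹ = x := by group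
    rwa [h4] at h3
  have hAW : A ≤ normalizer (W : Set G) := by
    intro a ha
    have h2 : a ∈ normalizer ((⁅U, A⁆ : Subgroup G) : Set G) := (Cfsg.Agent.Lib.CoprimeCommutator.right_le_normalizer_commutator U A) ha
    have h3 := hAC ha
    rw [mem_normalizer_iff_map_conj_eq] at h2 h3 ⊢
    rw [Subgroup.map_sup, h2, h3]
  have h2 : W ≤ C ⊔ ⁅W, A⁆ := by
    refine sup_le ?_ le_sup_left
    exact (commutator_mono hUW le_rfl).trans le_sup_right
  have h3 : W ≤ C := NO3b.CTwo.le_of_le_sup_commutator (isPGroup_of_elab hA.1)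
    (fun x hx y hy => elab_comm hΛ x (hWΛ hx) y (hWΛ hy)) (isPGroup_of_elab (elab_mono hΛ hWΛ)) hAW hAC
    le_sup_right h2
  exact (hUW.trans h3).trans inf_le_right

end Rep

end Cfsg.Agent.Omega.OM.Swap
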