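import Cfsg.Agent.Omega.OM.Swap.StarO

/-!
# THEOREM SW, the star lemma: coordinates `(Z₂)⁴` for `U = V₁ × V₂` and the group `⟨σ, τ⟩`
-/

set_option autoImplicit false

namespace Cfsg.Agent.Omega.OM.Swap

open Subgroup Cfsg Cfsg.Agent.ZN Cfsg.Agent.ZN.ChoiceBase Cfsg.Agent.ZN.ChoiceSit

universe u

variable {G : Type u} [Group G]

abbrev Z2 : Type := Multiplicative (ZMod 2)

abbrev M4 : Type := (Z2 × Z2) × (Z2 × Z2)

namespace M4

/-- the generator of `Z2` -/
abbrev g : Z2 := Multiplicative.ofAdd 1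

theorem z2_cases : ∀ a : Z2, a = 1 ∨ a = g := by decide

/-- `k.2`: apply `τ` first, `k.1`: then swap. -/
def act (k : Bool × Bool) (m : M4) : M4 :=
  let m1 : M4 := if k.2 then ((m.1.1, m.1.2 * m.1.1), (m.2.1, m.2.2 * m.2.1)) else m
  if k.1 then (m1.2, m1.1) else m1

theorem act_mul : ∀ k : Bool × Bool, ∀ m n : M4, act k (m * n) = act k m * act k n := by
  rintro ⟨a, b⟩ ⟨⟨m1, m2⟩, ⟨m3, m4⟩⟩ ⟨⟨n1, n2⟩, ⟨n3, n4⟩⟩
  cases a <;> cases b <;> simp [act, mul_mul_mul_comm]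

theorem act_one : ∀ k : Bool × Bool, act k 1 = 1 := by decide

/-- `act k` as a homomorphism -/
def actH (k : Bool × Bool) : M4 →* M4 where
  toFun := act k
  map_one' := act_one k
  map_mul' := act_mul k

abbrev e1 : M4 := ((g, 1), (1, 1))
abbrev e2 : M4 := ((1, g), (1, 1))
abbrev e3 : M4 := ((1, 1), (g, 1))
abbrev e4 : M4 := ((1, 1), (1, g))

theorem gens : ∀ m : M4, ∃ a b c d : Bool, m = (if a then e1 else 1) * (if b then e2 else 1) *
    (if c then e3 else 1) * (if d then e4 else 1) := by decide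

theorem hom_ext {H : Type*} [Group H] {f h : M4 →* H} (h1 : f e1 = h e1) (h2 : f e2 = h e2) (h3 : f e3 = h e3)
    (h4 : f e4 = h e4) : f = h := by
  ext m
  obtain ⟨a, b, c, d, rfl⟩ := gens m
  simp only [map_mul, apply_ite f, apply_ite h, map_one, h1, h2, h3, h4]

/-- a homomorphism `Z2 →* G` -/
def hz (x : G) (hx : x * x = 1) : Z2 →* G where
  toFun a := if a = 1 then 1 else x
  map_one' := by simp
  map_mul' a b := by
    rcases z2_cases a with rfl | rfl <;> rcases z2_cases b with rfl | rfl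
    · simp
    · simp
    · simp
    · have : (g * g : Z2) = 1 := by decide
      rw [this, if_pos rfl, if_neg (by decide), hx]

theorem hz_g {x : G} (hx : x * x = 1) : hz x hx g = x := by
  change (if g = 1 then 1 else x) = x
  exact if_neg (by decide)

/-- `D = {a = d}` -/
def DD : Subgroup M4 where
  carrier := {m | m.1.1 = m.2.1}
  one_mem' := rfl
  mul_mem' := by
    intro m n hm hn
    change (m * n).1.1 = (m * n).2.1
    change m.1.1 = m.2.1 at hm
    change n.1.1 = n.2.1 at hn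
    simp only [Prod.fst_mul, Prod.snd_mul, hm, hn]
  inv_mem' := by
    intro m hm
    change m⁻¹.1.1 = m⁻¹.2.1
    change m.1.1 = m.2.1 at hm
    simp only [Prod.fst_inv, Prod.snd_inv, hm]

theorem mem_DD {m : M4} : m ∈ DD ↔ m.1.1 = m.2.1 := Iff.rfl

/-- the fixed points of `act k` -/
def fixS (k : Bool × Bool) : Subgroup M4 := (actH k).eqLocus (MonoidHom.id M4)

theorem mem_fixS {k : Bool × Bool} {m : M4} : m ∈ fixS k ↔ act k m = m := Iff.rfl

theorem card_fixS : ∀ k : Bool × Bool, k ≠ (false, false) → Nat.card (fixS k) = 4 := by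
  have key : ∀ k : Bool × Bool, k ≠ (false, false) → Fintype.card {m : M4 // act k m = m} = 4 := by decide
  intro k hk
  change Nat.card {m : M4 // act k m = m} = 4
  rw [Nat.card_eq_fintype_card]
  exact key k hk

theorem card_M4 : Nat.card M4 = 16 := by
  rw [Nat.card_eq_fintype_card]
  decide

theorem d_sq : ∀ m : M4, m * m = 1 := by decide

theorem d_s1 : ∀ k m, (m * act k m).1.1 = (m * act k m).2.1 := by decide

theorem d_s2 : ∀ k, ∀ m : M4, m.1.1 = m.2.1 → m * act k m = 1 ∨ m * act k m = e2 * e4 := by decide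

theorem d_s3 : ∀ k : Bool × Bool, k ≠ (false, false) → ∀ m : M4, m.1.1 ≠ m.2.1 →
    m * act k m ≠ 1 ∧ m * act k m ≠ e2 * e4 := by
  have h1 : ∀ m : M4, m.1.1 ≠ m.2.1 → m * act (false, true) m ≠ 1 := by decide
  have h2 : ∀ m : M4, m.1.1 ≠ m.2.1 → m * act (false, true) m ≠ e2 * e4 := by decide
  have h3 : ∀ m : M4, m.1.1 ≠ m.2.1 → m * act (true, false) m ≠ 1 := by decide
  have h4 : ∀ m : M4, m.1.1 ≠ m.2.1 → m * act (true, false) m ≠ e2 * e4 := by decide
  have h5 : ∀ m : M4, m.1.1 ≠ m.2.1 → m * act (true, true) m ≠ 1 := by decide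
  have h6 : ∀ m : M4, m.1.1 ≠ m.2.1 → m * act (true, true) m ≠ e2 * e4 := by decide
  rintro ⟨_ | _, _ | _⟩ hk m hm
  · exact absurd rfl hk
  · exact ⟨h1 m hm, h2 m hm⟩
  · exact ⟨h3 m hm, h4 m hm⟩
  · exact ⟨h5 m hm, h6 m hm⟩

theorem d_c5 : ∀ k m, act k (m * act k m) = m * act k m := by decide

theorem d_s4 (k k' : Bool × Bool) (h : ∀ m, act k m = m ↔ act k' m = m) : k = k' := by
  have a1 : ∀ k : Bool × Bool, act k e2 = e2 ↔ k.1 = false := by decide
  have a2 : ∀ k : Bool × Bool, act k (e1 * e3) = e1 * e3 ↔ k.2 = false := by decide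
  have b1 : k.1 = false ↔ k'.1 = false := (a1 k).symm.trans ((h _).trans (a1 k'))
  have b2 : k.2 = false ↔ k'.2 = false := (a2 k).symm.trans ((h _).trans (a2 k'))
  have c : ∀ a b : Bool, (a = false ↔ b = false) → a = b := by decide
  exact Prod.ext (c _ _ b1) (c _ _ b2)

theorem act_ff : ∀ m, act (false, false) m = m := by decide

theorem d_mv1 : ∀ k : Bool × Bool, k ≠ (false, false) → act k e1 ≠ e1 := by decide

theorem d_mv3 : ∀ k : Bool × Bool, k ≠ (false, false) → act k e3 ≠ e3 := by decide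

/-- the transvection on the first factor -/
def tau (m : M4) : M4 := ((m.1.1, m.1.2 * m.1.1), m.2)

/-- the transvection on the first factor, as a homomorphism -/
def tauH : M4 →* M4 where
  toFun := tau
  map_one' := by decide
  map_mul' := by
    rintro ⟨⟨m1, m2⟩, ⟨m3, m4⟩⟩ ⟨⟨n1, n2⟩, ⟨n3, n4⟩⟩
    simp [tau, mul_mul_mul_comm]

theorem d_tau1 : ∀ m, act (true, false) m = m → act (true, true) (tau m) = tau m := by decide

theorem d_tau2 : ∀ m, act (true, true) m = m → act (true, false) (tau m) = tau m := by decide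

theorem d_tau3 : ∀ m, tau (tau m) = m := by decide

theorem map_tau : (fixS (true, false)).map tauH = fixS (true, true) := by
  ext m
  constructor
  · rintro ⟨n, hn, rfl⟩
    exact mem_fixS.2 (d_tau1 n (mem_fixS.1 hn))
  · intro hm
    exact ⟨tau m, mem_fixS.2 (d_tau2 m (mem_fixS.1 hm)), d_tau3 m⟩

theorem d_fix : ∀ p q : Z2 × Z2, act (true, false) (p, q) = (p, q) → q = p := by decide

theorem d_fix' : ∀ p : Z2 × Z2, act (true, false) (p, p) = (p, p) := by decide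

theorem d_fix2 : ∀ p q : Z2 × Z2, q * p = 1 → q = p := by decide

theorem fixS_ne : fixS (true, false) ≠ fixS (true, true) := by
  intro h
  have h1 : (e1 * e3) ∈ fixS (true, false) := mem_fixS.2 (by decide)
  rw [h] at h1
  exact absurd (mem_fixS.1 h1) (by decide)

end M4

open M4

theorem loc_of {O U : Subgroup G} {φ : M4 →* G} (hφ : Function.Injective φ) (hr : φ.range = U)
    (hO : ∀ o ∈ O, ∃ k, ∀ m, o * φ m * o⁻¹ = φ (act k m)) : Loc O U (DD.map φ) (φ (e2 * e4)) := by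
  subst hr
  have hne : ∀ {o : G} {k : Bool × Bool}, (∀ m, o * φ m * o⁻¹ = φ (act k m)) →
      (∃ u ∈ φ.range, o * u ≠ u * o) → k ≠ (false, false) := by
    rintro o k hk ⟨_, ⟨m, rfl⟩, hm⟩ rfl
    apply hm
    have := hk m
    rw [act_ff] at this
    rw [← mul_inv_eq_iff_eq_mul]
    exact this
  have hce : ∀ {o : G} {k : Bool × Bool}, (∀ m, o * φ m * o⁻¹ = φ (act k m)) →
      ce φ.range o = (fixS k).map φ := by
    intro o k hk
    ext x
    rw [mem_ce]
    constructor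
    · rintro ⟨⟨m, rfl⟩, hm⟩
      refine ⟨m, ?_, rfl⟩
      rw [← mul_inv_eq_iff_eq_mul, hk] at hm
      exact mem_fixS.2 (hφ hm)
    · rintro ⟨m, hm, rfl⟩
      refine ⟨⟨m, rfl⟩, ?_⟩
      rw [← mul_inv_eq_iff_eq_mul, hk, mem_fixS.1 hm]
  refine ⟨?_, ?_, ?_, ?_, ⟨_, rfl⟩, ?_, ?_, ?_, ?_, ?_, ?_, ?_, ?_, ?_⟩
  · rw [← card_M4]
    exact (Nat.card_congr (MonoidHom.ofInjective hφ).toEquiv).symm
  · rintro _ ⟨m, rfl⟩ _ ⟨n, rfl⟩
    rw [← map_mul, ← map_mul, mul_comm]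
  · rintro _ ⟨m, rfl⟩
    rw [← map_mul, d_sq, map_one]
  · rintro o ho _ ⟨m, rfl⟩
    obtain ⟨k, hk⟩ := hO o ho
    rw [hk]
    exact ⟨_, rfl⟩
  · intro h1
    rw [← map_one φ] at h1
    exact absurd (hφ h1) (by decide)
  · rintro _ ⟨m, -, rfl⟩
    exact ⟨m, rfl⟩
  · refine ⟨φ e1, ⟨_, rfl⟩, ?_⟩
    rintro ⟨m, hm, he⟩
    rw [hφ he] at hm
    exact absurd (mem_DD.1 hm) (by decide)
  · rintro o ho _ ⟨m, rfl⟩
    obtain ⟨k, hk⟩ := hO o ho
    rw [hk, ← map_mul]
    exact ⟨_, mem_DD.2 (d_s1 k m), rfl⟩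
  · rintro o ho _ ⟨m, hm, rfl⟩
    obtain ⟨k, hk⟩ := hO o ho
    rw [hk, ← map_mul]
    rcases d_s2 k m (mem_DD.1 hm) with h1 | h1
    · left; rw [h1, map_one]
    · right; rw [h1]
  · rintro o ho hm _ ⟨m, rfl⟩ hmD
    obtain ⟨k, hk⟩ := hO o ho
    rw [hk, ← map_mul]
    have h1 : m.1.1 ≠ m.2.1 := fun h => hmD ⟨m, mem_DD.2 h, rfl⟩
    obtain ⟨h2, h3⟩ := d_s3 k (hne hk hm) m h1
    exact ⟨fun h => h2 (hφ (by rw [h, map_one])), fun h => h3 (hφ h)⟩
  · intro o ho hm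
    obtain ⟨k, hk⟩ := hO o ho
    rw [hce hk, PLocal.ThompsonJ.card_map_injective _ hφ, card_fixS k (hne hk hm)]
  · rintro o ho _ ⟨m, rfl⟩
    obtain ⟨k, hk⟩ := hO o ho
    rw [hk, ← map_mul, hk, d_c5]
  · rintro o ho o' ho' he _ ⟨m, rfl⟩
    obtain ⟨k, hk⟩ := hO o ho
    obtain ⟨k', hk'⟩ := hO o' ho'
    rw [hce hk, hce hk'] at he
    have he' := Subgroup.map_injective hφ he
    have : k = k' := d_s4 k k' fun m => by
      rw [← mem_fixS, ← mem_fixS, he']
    rw [hk, hk', this]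

end Cfsg.Agent.Omega.OM.Swap
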