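import Cfsg.Agent.Omega.OM.Swap.Two
import Cfsg.Agent.Omega.OM.Swap.OneB
import Cfsg.Agent.Omega.OM.Swap.Fam.SitF

/-!
# THEOREM SW: from the output of the star lemma to the contradiction

`StarO` = the output of the star lemma; `Sit.false_of`, `SitF.false_of`.
-/

set_option autoImplicit false

namespace Cfsg.Agent.Omega.OM.Swap

open Subgroup Cfsg Cfsg.Agent.ZN Cfsg.Agent.ZN.ChoiceBase Cfsg.Agent.ZN.ChoiceSit
  Cfsg.Agent.MinSimple.VModule Cfsg.Agent.Omega.OmThm
open Cfsg.Agent.MinSimple.MinParabolic (IsMinPar)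
open scoped Pointwise commutatorElement

universe u

/-- The output of the star lemma. -/
structure StarO {G : Type u} [Group G] {ι : Type*} (F : Subgroup G) (V : ι → Subgroup G) (z : ι → G) (i j : ι)
    (D : Subgroup G) (E : Bool → Subgroup G) : Prop where
  ne : i ≠ j
  only : ∀ k, k = i ∨ k = j
  loc : Loc (o2 F) (⨆ k, V k) D (z i * z j)
  Ecard : ∀ b, Nat.card (E b) = 4
  Ene : E true ≠ E false
  EU : ∀ b, ∃ f ∈ F, E b = (⨆ k, V k) ⊓ cj f (⨆ k, V k)
  /-- an element of `O` which moves a `V k` moves every `V l` -/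
  both : ∀ o ∈ o2 F, ∀ k l, (∃ x ∈ V k, o * x ≠ x * o) → ∃ x ∈ V l, o * x ≠ x * o

variable {G : Type u} [Group G] {ι : Type*} {F T F₀ : Subgroup G} {𝓐 : Set (Subgroup G)} {V : ι → Subgroup G}
  {z : ι → G} {i j : ι} {D : Subgroup G} {E : Bool → Subgroup G}

/-- Two different indices. -/
theorem StarO.exists_ne (hs : StarO F V z i j D E) (k : ι) : ∃ l, l ≠ k := by
  rcases hs.only k with rfl | rfl
  · exact ⟨j, hs.ne.symm⟩
  · exact ⟨i, hs.ne⟩

/-- An element which commutes with all `V k` commutes with `⟨V k⟩`. -/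
theorem comm_iSup {V : ι → Subgroup G} {a : G} (h : ∀ k, ∀ x ∈ V k, a * x = x * a) {u : G} (hu : u ∈ ⨆ k, V k) :
    a * u = u * a := by
  have h1 : (⨆ k, V k) ≤ centralizer ({a} : Set G) := iSup_le fun k x hx =>
    mem_centralizer_singleton_iff.2 (h k x hx).symm
  exact (mem_centralizer_singleton_iff.1 (h1 hu)).symm

theorem Sit.false_of [Finite G] (h : Sit F T F₀ V z) (hs : StarO F V z i j D E) : False := by
  refine Two.false (F := F) (T := T) (U := ⨆ k, V k) (D := D) (z := z i * z j) (E := E)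
    { syl := h.syl
      par := h.par
      nJ := h.nJ
      TU := h.T_nor
      UO := h.U0_le
      comm := h.Lam_comm
      sq := h.Lam_sq
      nU := ?_
      loc := hs.loc
      zF := h.zc i j hs.ne hs.only
      Ecard := hs.Ecard
      Ene := hs.Ene
      EU := hs.EU
      cenA := ?_
      non := ?_ }
  · intro hF
    refine h.F₀F.not_ge fun f hf => h.ti i (z i) (h.zV i) (h.z1 i) f hf ?_
    rw [cj_eq_of_mem_normalizer (hF hf)]
    exact le_iSup V i (h.zV i)
  · intro A hA hAO a ha u hu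
    have hAT : A ∈ AA T := AA_of_le hA (hAO.trans (o2_le_syl h.syl)) h.syl.1
    refine comm_iSup (V := V) (fun k x hx => ?_) hu
    by_contra hne
    obtain ⟨a', ha', hm, ht⟩ := h.hat A hAT k ⟨a, ha, x, hx, hne⟩
    obtain ⟨l, hl⟩ := hs.exists_ne k
    obtain ⟨y, hy, hy'⟩ := hs.both a' (hAO ha') k l hm
    exact hy' (ht l hl y hy)
  · have hU : U0 V ≤ Lam V F := by
      have := Sit.cjU_le_Lam (V := V) (one_mem F)
      rwa [cj_one] at this
    refine ⟨z i, commutator_mono hU le_rfl (h.z_mem_comm i), ?_⟩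
    by_contra hcon
    push Not at hcon
    have h1 : oddGen F ≤ F₀ := fun x hx => by
      have h2 := h.ti_cent (one_mem F) ((oddGen_le F) hx) (i := i) (x := z i) (by rw [cj_one]; exact h.zV i) (h.z1 i)
        (hcon x hx).symm
      rwa [cj_one] at h2
    have h2 : F ≤ F₀ := by
      rw [← Dich.oddGen_sup_syl h.syl]
      exact sup_le h1 h.TF₀
    exact h.F₀F.not_ge h2

namespace Fam

theorem SitF.false_of [Finite G] (h : SitF F T F₀ 𝓐 V z) (hs : StarO F V z i j D E) : False := by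
  refine Fam.Two.false (F := F) (T := T) (𝓐 := 𝓐) (U := ⨆ k, V k) (D := D) (z := z i * z j) (E := E)
    { syl := h.syl
      par := ⟨h.TF, h.one.T_not_normal, F₀, h.F₀F, h.max⟩
      fam := h.fam
      nJ := ?_
      TU := h.T_nor
      UO := h.U0_le
      comm := h.Lam_ab.1
      sq := h.Lam_ab.2
      nU := ?_
      loc := hs.loc
      zF := h.zc i j hs.ne hs.only
      Ecard := hs.Ecard
      Ene := hs.Ene
      EU := hs.EU
      cenA := ?_
      non := ?_ }
  · obtain ⟨A, hA, -, hAn⟩ := h.nJ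
    exact ⟨A, hA, hAn⟩
  · intro hF
    refine h.F₀F.not_ge fun f hf => h.ti i (z i) (h.zV i) (h.z1 i) f hf ?_
    rw [cj_eq_of_mem_normalizer (hF hf)]
    exact le_iSup V i (h.zV i)
  · intro A hA hAO a ha u hu
    have hAT : A ≤ T := hAO.trans (o2_le_syl h.syl)
    refine comm_iSup (V := V) (fun k x hx => ?_) hu
    by_contra hne
    obtain ⟨a', ha', hm, ht⟩ := h.hat A hA hAT k ⟨a, ha, x, hx, hne⟩
    obtain ⟨l, hl⟩ := hs.exists_ne k
    obtain ⟨y, hy, hy'⟩ := hs.both a' (hAO ha') k l hm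
    exact hy' (ht l hl y hy)
  · have hU : U0 V ≤ NoFF.Basic.V (U0 V) F := by
      have := NoFF.Basic.Z_le_V (Z := U0 V) (one_mem F)
      change cj 1 (U0 V) ≤ _ at this
      rwa [cj_one] at this
    refine ⟨z i, commutator_mono hU le_rfl (h.z_mem_comm i), ?_⟩
    by_contra hcon
    push Not at hcon
    have h1 : oddGen F ≤ F₀ := fun x hx => by
      have h2 := h.ti_cent (one_mem F) ((oddGen_le F) hx) (i := i) (x := z i) (by rw [cj_one]; exact h.zV i) (h.z1 i)
        (hcon x hx).symm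
      rwa [cj_one] at h2
    have h2 : F ≤ F₀ := by
      rw [← Dich.oddGen_sup_syl h.syl]
      exact sup_le h1 h.TF₀
    exact h.F₀F.not_ge h2

end Fam

end Cfsg.Agent.Omega.OM.Swap
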